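import Mathlib
import Cfsg.Agent.Lib.DicksonFull.Subgroups
import Cfsg.Agent.Lib.DicksonFull.Solvabilizer
import Cfsg.Agent.Lib.PSL2Klein
import Cfsg.Agent.Lib.PSL2Platonic

/-!
Facts about `PSL₂(q)` for `q = 3^(2m+1) ≥ 27`: involutions, four-groups, tori and the parity of orders.
-/

set_option autoImplicit false
set_option linter.unusedSectionVars false
set_option linter.style.haveILetI false

namespace CfsgLib.ReeTori

open CfsgLib.DicksonFull Matrix
open CfsgLib.PSL2 (mk)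

variable {F : Type*} [Field F] [Fintype F] {m : ℕ}

local notation "PSL" => Matrix.ProjectiveSpecialLinearGroup (Fin 2) F
local notation "q" => Fintype.card F

/-- The order of the field of a Ree group. -/
structure QData (F : Type*) [Field F] [Fintype F] (m : ℕ) : Prop where
  hm : 1 ≤ m
  hq : Fintype.card F = 3 ^ (2 * m + 1)

theorem QData.mod (D : QData F m) : q % 8 = 3 ∧ 27 ≤ q := by
  have h9 : 9 ^ m % 8 = 1 := by rw [Nat.pow_mod]; norm_num
  have h3 : q = 3 * 9 ^ m := by rw [D.hq, pow_succ, pow_mul]; ring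
  have := Nat.pow_le_pow_right (show 9 > 0 by norm_num) D.hm
  omega

theorem QData.charP (D : QData F m) : CharP F 3 := by
  obtain ⟨p, hp⟩ := CharP.exists F
  obtain ⟨n, hpp, hn⟩ := FiniteField.card F p
  have h : p ∣ 3 ^ (2 * m + 1) := by rw [← D.hq, hn]; exact dvd_pow_self p n.ne_zero
  rw [(Nat.prime_dvd_prime_iff_eq hpp Nat.prime_three).mp (hpp.dvd_of_dvd_pow h)] at hp
  exact hp

theorem QData.gcd_two (D : QData F m) : Nat.gcd 2 (q - 1) = 2 := by
  obtain ⟨h, -⟩ := D.mod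
  exact Nat.gcd_eq_left (by omega)

variable [Fact (Nat.Prime 3)] [CharP F 3]

theorem invol_SS {b : PSL} (hb1 : b ≠ 1) (hb : b * b = 1) : SS 3 b := by
  refine ⟨hb1, fun h => ?_⟩
  have h2 : orderOf b ∣ 2 := orderOf_dvd_of_pow_eq_one (by rw [pow_two]; exact hb)
  exact absurd (Nat.le_of_dvd (by norm_num) (h.trans h2)) (by norm_num)

theorem two_ne (D : QData F m) : (2 : F) ≠ 0 :=
  SL2Orders.two_ne_zero_of_odd (by rw [D.hq]; exact Odd.pow (by decide))

theorem card_T_invol (D : QData F m) {b : PSL} (hb1 : b ≠ 1) (hb : b * b = 1) :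
    2 * Nat.card ((psl (F := F) 3).T b) = q + 1 := by
  obtain ⟨g, rfl⟩ := mk_surj b
  have ht := (PSL2Klein.invol_iff (two_ne D)).mp ⟨hb1, hb⟩
  have hT : (psl (F := F) 3).T (mk g) = cT g := cT_congr (QuotientGroup.out_eq' _)
  rw [hT]
  have h4 : g.1.trace ^ 2 ≠ 4 := by rw [ht]; exact PSL2Klein.zero_sq_ne_four (two_ne D)
  rcases card_torus h4 with ⟨-, h⟩ | ⟨⟨s, hs⟩, -⟩
  · rwa [D.gcd_two] at h
  · exfalso
    obtain ⟨h8, -⟩ := D.mod
    exact FiniteField.isSquare_neg_one_iff.mp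
      ⟨s, by rw [ht] at hs; linear_combination -hs⟩ (by omega)

theorem cent_invol {b : PSL} (hb1 : b ≠ 1) (hb : b * b = 1) :
    Subgroup.centralizer {b} = Subgroup.normalizer ((psl (F := F) 3).T b : Set PSL) := by
  have hs := invol_SS hb1 hb
  ext g
  rw [Subgroup.mem_centralizer_singleton_iff, mem_norm_iff hs]
  refine ⟨fun h => ?_, fun h => ?_⟩
  · rw [h, mul_inv_cancel_right]
    exact (psl 3).mem_T b hs
  · by_cases hg : g ∈ (psl 3).T b
    · exact (tor_comm hs hg ((psl 3).mem_T b hs)).eq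
    · have h1 := ((psl 3).T_norm b g hs h hg).1 b ((psl 3).mem_T b hs)
      rw [inv_eq_of_mul_eq_one_left hb, mul_inv_eq_iff_eq_mul] at h1
      exact h1

theorem card_cent_invol (D : QData F m) {b : PSL} (hb1 : b ≠ 1) (hb : b * b = 1) :
    Nat.card (Subgroup.centralizer {b}) = q + 1 := by
  rw [cent_invol hb1 hb, card_norm 3 (invol_SS hb1 hb), card_T_invol D hb1 hb]

theorem invol_conj (D : QData F m) {b c : PSL} (hb1 : b ≠ 1) (hb : b * b = 1) (hc1 : c ≠ 1) (hc : c * c = 1) :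
    ∃ g : PSL, g * b * g⁻¹ = c := by
  obtain ⟨x, rfl⟩ := mk_surj b
  obtain ⟨y, rfl⟩ := mk_surj c
  obtain ⟨g, hg⟩ := isConj_iff.mp (PSL2Klein.isConj_trace_zero (two_ne D)
    ((PSL2Klein.invol_iff (two_ne D)).mp ⟨hb1, hb⟩) ((PSL2Klein.invol_iff (two_ne D)).mp ⟨hc1, hc⟩))
  exact ⟨mk g, by rw [← map_inv, ← map_mul, ← map_mul, hg]⟩

/-- The centraliser of a four-group is itself. -/
theorem four_cent {b c y : PSL} (hb1 : b ≠ 1) (hb : b * b = 1) (hc1 : c ≠ 1) (hc : c * c = 1) (hbc : b ≠ c)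
    (hcm : Commute b c) (hyb : Commute y b) (hyc : Commute y c) : y = 1 ∨ y = b ∨ y = c ∨ y = b * c := by
  have hs := invol_SS hb1 hb
  have hbn : ∀ {z : PSL}, Commute z b → z * b * z⁻¹ ∈ (psl (F := F) 3).T b := fun {z} h => by
    rw [h.eq, mul_inv_cancel_right]
    exact (psl 3).mem_T b hs
  have hcT : c ∉ (psl (F := F) 3).T b := fun h => by
    rcases involution_unique (psl 3) hs (by rw [pow_two]; exact hb) h (by rw [pow_two]; exact hc) with e | e
    · exact hc1 e
    · exact hbc e.symm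
  have hinv := ((psl (F := F) 3).T_norm b c hs (hbn hcm.symm) hcT).1
  have key : ∀ z, z ∈ (psl (F := F) 3).T b → Commute z c → z = 1 ∨ z = b := by
    intro z hz hzc
    refine involution_unique (psl 3) hs (by rw [pow_two]; exact hb) hz ?_
    have h1 := hinv z hz
    rw [hzc.symm.eq, mul_inv_cancel_right] at h1
    rw [pow_two]
    nth_rw 2 [h1]
    exact mul_inv_cancel z
  by_cases hy : y ∈ (psl (F := F) 3).T b
  · rcases key y hy hyc with e | e
    · exact Or.inl e
    · exact Or.inr (Or.inl e)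
  · have h1 := ((psl (F := F) 3).T_norm b c hs (hbn hcm.symm) hcT).2 y (hbn hyb) hy
    rw [inv_eq_of_mul_eq_one_left hc] at h1
    rcases key _ h1 ((Commute.refl c).mul_left hyc) with e | e
    · exact Or.inr (Or.inr (Or.inl (by rw [← one_mul y, ← hc, mul_assoc, e, mul_one])))
    · exact Or.inr (Or.inr (Or.inr (by rw [← one_mul y, ← hc, mul_assoc, e, hcm.eq])))

theorem a4_data : ∃ g b c : alternatingGroup (Fin 4), g ^ 3 = 1 ∧ g ≠ 1 ∧ b * b = 1 ∧ b ≠ 1 ∧ c * c = 1 ∧
    c ≠ 1 ∧ b ≠ c ∧ b * c = c * b ∧ g * b * g⁻¹ = c ∧ g * c * g⁻¹ = b * c := by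
  refine ⟨⟨Equiv.swap 1 2 * Equiv.swap 2 3, Equiv.Perm.mem_alternatingGroup.mpr (by decide)⟩, ⟨Equiv.swap 0 1 * Equiv.swap 2 3, Equiv.Perm.mem_alternatingGroup.mpr (by decide)⟩,
    ⟨Equiv.swap 0 2 * Equiv.swap 1 3, Equiv.Perm.mem_alternatingGroup.mpr (by decide)⟩, ?_⟩
  decide

/-- A four-group cycled by an element of order three. -/
theorem exists_cycle (D : QData F m) : ∃ g b c : PSL, g ^ 3 = 1 ∧ g ≠ 1 ∧ b * b = 1 ∧ b ≠ 1 ∧ c * c = 1 ∧
    c ≠ 1 ∧ b ≠ c ∧ b * c = c * b ∧ g * b * g⁻¹ = c ∧ g * c * g⁻¹ = b * c := by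
  obtain ⟨H, ⟨e⟩⟩ := PSL2Platonic.exists_A4 (F := F) (two_ne D)
  obtain ⟨g, b, c, h1, h2, h3, h4, h5, h6, h7, h8, h9, h10⟩ := a4_data
  let f : alternatingGroup (Fin 4) →* PSL := H.subtype.comp e.symm.toMonoidHom
  have hf : Function.Injective f := H.subtype_injective.comp e.symm.injective
  refine ⟨f g, f b, f c, by rw [← map_pow, h1, map_one], (map_ne_one_iff f hf).mpr h2, by rw [← map_mul, h3, map_one],
    (map_ne_one_iff f hf).mpr h4, by rw [← map_mul, h5, map_one], (map_ne_one_iff f hf).mpr h6, fun e' => h7 (hf e'),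
    by rw [← map_mul, h8, map_mul], by rw [← map_inv, ← map_mul, ← map_mul, h9],
    by rw [← map_inv, ← map_mul, ← map_mul, h10, map_mul]⟩

theorem card_PSL (D : QData F m) : 2 * Nat.card PSL = q * (q ^ 2 - 1) := by
  have h := card_psl (F := F)
  rwa [D.gcd_two] at h

/-- The semisimple elements of order dividing `(q + 1) / 4`. -/
theorem minus_torus (D : QData F m) {x : PSL} (hx1 : x ≠ 1) (hx : orderOf x ∣ (q + 1) / 4) :
    SS 3 x ∧ 2 * Nat.card ((psl (F := F) 3).T x) = q + 1 ∧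
      Subgroup.centralizer {x} = (psl (F := F) 3).T x := by
  obtain ⟨h8, h27⟩ := D.mod
  have hdvd : 3 ∣ q := by rw [D.hq]; exact dvd_pow_self 3 (by omega)
  have hs : SS 3 x := ⟨hx1, fun h => by
    have h1 : 3 ∣ (q + 1) / 4 := h.trans hx
    have h2 : 3 ∣ q + 1 := h1.trans (Dvd.intro_left 4 (Nat.mul_div_cancel' (by omega)))
    omega⟩
  obtain ⟨n, hn, hT⟩ : ∃ n : ℕ, (Nat.gcd 2 (q - 1) * n = q + 1 ∨ Nat.gcd 2 (q - 1) * n = q - 1) ∧
      Nat.card ((psl (F := F) 3).T x) = n := by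
    obtain ⟨b, rfl⟩ := mk_surj x
    have hT : (psl (F := F) 3).T (mk b) = cT b := cT_congr (QuotientGroup.out_eq' _)
    rw [hT]
    refine ⟨_, ?_, rfl⟩
    rcases card_torus ((ss_iff 3).mp hs) with ⟨-, h⟩ | ⟨-, h⟩
    · exact Or.inl h
    · exact Or.inr h
  rw [D.gcd_two] at hn
  have hxT : orderOf x ∣ n := hT ▸ Subgroup.orderOf_dvd_natCard _ ((psl 3).mem_T x hs)
  have hn' : 2 * n = q + 1 := by
    refine hn.resolve_right fun h => ?_
    have h1 : orderOf x ∣ Nat.gcd ((q + 1) / 4) n := Nat.dvd_gcd hx hxT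
    have h2 : Nat.gcd ((q + 1) / 4) n ∣ 1 := by
      have ha := Nat.gcd_dvd_left ((q + 1) / 4) n
      have hb := Nat.gcd_dvd_right ((q + 1) / 4) n
      have := Nat.dvd_sub (Dvd.dvd.mul_left ha 2) hb
      rwa [show 2 * ((q + 1) / 4) - n = 1 by omega] at this
    exact hx1 (orderOf_eq_one_iff.mp (Nat.dvd_one.mp (h1.trans h2)))
  refine ⟨hs, by rw [hT]; exact hn', ?_⟩
  ext y
  rw [Subgroup.mem_centralizer_singleton_iff]
  refine ⟨fun h => ?_, fun h => (tor_comm hs h ((psl 3).mem_T x hs)).eq⟩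
  by_contra hy
  have h1 := ((psl 3).T_norm x y hs (by rw [h, mul_inv_cancel_right]; exact (psl 3).mem_T x hs) hy).1 x
    ((psl 3).mem_T x hs)
  rw [h, mul_inv_cancel_right] at h1
  have h2 : x * x = 1 := by nth_rw 2 [h1]; exact mul_inv_cancel x
  have h3 : orderOf x ∣ 2 := orderOf_dvd_of_pow_eq_one (by rw [pow_two]; exact h2)
  obtain ⟨k, hk⟩ : ∃ k, (q + 1) / 4 = 2 * k + 1 := ⟨(q + 1) / 8, by omega⟩
  rcases (Nat.dvd_prime Nat.prime_two).mp h3 with e | e
  · exact hx1 (orderOf_eq_one_iff.mp e)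
  · rw [e, hk] at hx; omega

/-- The number of even-order elements in a cyclic group of twice odd order. -/
theorem cyclic_even_count {C : Type*} [Group C] [Finite C] [IsCyclic C] {k : ℕ} (hk : Odd k)
    (hC : Nat.card C = 2 * k) : Nat.card {y : C // Even (orderOf y)} = k := by
  classical
  letI := IsCyclic.commGroup (α := C)
  haveI := Fintype.ofFinite C
  have hiff : ∀ y : C, Even (orderOf y) ↔ y ∉ (powMonoidHom k : C →* C).ker := by
    intro y
    rw [MonoidHom.mem_ker, powMonoidHom_apply]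
    constructor
    · intro he h
      exact (Nat.not_even_iff_odd.mpr (Odd.of_dvd_nat hk (orderOf_dvd_of_pow_eq_one h))) he
    · intro h
      by_contra ho
      refine h (orderOf_dvd_iff_pow_eq_one.mp ?_)
      have hd : orderOf y ∣ 2 * k := hC ▸ orderOf_dvd_natCard y
      exact (Nat.Coprime.dvd_of_dvd_mul_left (Nat.coprime_two_right.mpr (Nat.not_even_iff_odd.mp ho)) hd)
  rw [Nat.card_congr (Equiv.subtypeEquivRight hiff), Nat.card_eq_fintype_card, Fintype.card_subtype_compl,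
    ← Nat.card_eq_fintype_card, ← Nat.card_eq_fintype_card]
  have hker : Nat.card (powMonoidHom k : C →* C).ker = k := by
    rw [IsCyclic.card_powMonoidHom_ker, hC, Nat.gcd_mul_left_left]
  change Nat.card C - Nat.card (powMonoidHom k : C →* C).ker = k
  omega

/-- The involution in the subgroup generated by an element of even order. -/
theorem even_pow {G : Type*} [Group G] [Finite G] {y : G} (h : Even (orderOf y)) :
    y ^ (orderOf y / 2) ≠ 1 ∧ y ^ (orderOf y / 2) * y ^ (orderOf y / 2) = 1 := by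
  obtain ⟨k, hk⟩ := h
  have hp := orderOf_pos y
  refine ⟨fun e => ?_, ?_⟩
  · have := Nat.le_of_dvd (by omega) (orderOf_dvd_of_pow_eq_one e)
    omega
  · rw [← pow_add, show orderOf y / 2 + orderOf y / 2 = orderOf y by omega, pow_orderOf_eq_one]

/-- The number of elements of even order. -/
theorem even_count (D : QData F m) : 8 * Nat.card {y : PSL // Even (orderOf y)} = q * (q ^ 2 - 1) := by
  classical
  obtain ⟨h8, h27⟩ := D.mod
  let I := {b : PSL // b ≠ 1 ∧ b * b = 1}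
  have key : ∀ (b : I) {y : PSL}, y ∈ (psl (F := F) 3).T b.1 → Even (orderOf y) → y ^ (orderOf y / 2) = b.1 := by
    intro b y hy he
    obtain ⟨h1, h2⟩ := even_pow he
    rcases involution_unique (psl 3) (invol_SS b.2.1 b.2.2) (by rw [pow_two]; exact b.2.2) (pow_mem hy _)
      (by rw [pow_two]; exact h2) with e | e
    · exact absurd e h1
    · exact e
  have inj : ∀ s t : (b : I) × {y : (psl (F := F) 3).T b.1 // Even (orderOf y)},
      (s.2.1 : PSL) = t.2.1 → s = t := by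
    rintro ⟨⟨b, hb⟩, ⟨y, hy⟩, he⟩ ⟨⟨c, hc⟩, ⟨z, hz⟩, he'⟩ (rfl : y = z)
    rw [Subgroup.orderOf_mk] at he
    obtain rfl : b = c := (key ⟨b, hb⟩ hy he).symm.trans (key ⟨c, hc⟩ hz he)
    rfl
  let f : ((b : I) × {y : (psl (F := F) 3).T b.1 // Even (orderOf y)}) → {y : PSL // Even (orderOf y)} :=
    fun s => ⟨s.2.1.1, by rw [Subgroup.orderOf_coe]; exact s.2.2⟩
  have hf : Function.Bijective f := by
    refine ⟨fun s t h => inj s t (congrArg Subtype.val h), ?_⟩
    rintro ⟨y, he⟩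
    obtain ⟨h1, h2⟩ := even_pow he
    obtain ⟨t, ht⟩ : ∃ t, t = y ^ (orderOf y / 2) := ⟨_, rfl⟩
    rw [← ht] at h1 h2
    have hs := invol_SS h1 h2
    have hyT : y ∈ (psl (F := F) 3).T t := by
      by_contra hy
      have hmem : y * t * y⁻¹ ∈ (psl (F := F) 3).T t := by
        rw [ht, (Commute.self_pow y _).eq, mul_inv_cancel_right, ← ht]
        exact (psl 3).mem_T _ hs
      have h3 := inverter_sq (psl 3) hs hmem hy
      have h4 : orderOf y = 2 := by
        rcases (Nat.dvd_prime Nat.prime_two).mp (orderOf_dvd_of_pow_eq_one h3) with e | e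
        · exact absurd he (by rw [e]; decide)
        · exact e
      have h5 : t = y := by rw [ht, h4]; exact pow_one _
      exact hy (h5 ▸ (psl (F := F) 3).mem_T _ hs)
    refine ⟨⟨⟨t, h1, h2⟩, ⟨⟨y, hyT⟩, ?_⟩⟩, Subtype.ext rfl⟩
    rw [Subgroup.orderOf_mk]
    exact he
  have hI : Nat.card I * (q + 1) = Nat.card PSL := by
    obtain ⟨g, b, c, -, -, hb, hb1, -⟩ := exists_cycle D
    rw [← CfsgLib.TwoByTwo.card_carrier_mul_centralizer b, card_cent_invol D hb1 hb]
    congr 1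
    refine Nat.card_congr (Equiv.subtypeEquivRight fun z => ?_)
    rw [ConjClasses.mem_carrier_iff_mk_eq, ConjClasses.mk_eq_mk_iff_isConj]
    constructor
    · rintro ⟨h1, h2⟩
      exact isConj_iff.mpr (invol_conj D h1 h2 hb1 hb)
    · intro h
      obtain ⟨g, rfl⟩ := isConj_iff.mp h.symm
      refine ⟨fun e' => hb1 ?_, ?_⟩
      · rw [mul_inv_eq_one, mul_eq_left] at e'; exact e'
      · rw [show g * b * g⁻¹ * (g * b * g⁻¹) = g * (b * b) * g⁻¹ by group, hb, mul_one, mul_inv_cancel]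
  have hcard := card_PSL D
  rw [← Nat.card_congr (Equiv.ofBijective f hf), Nat.card_sigma, Finset.sum_congr rfl (g := fun _ => (q + 1) / 4), Finset.sum_const,
    smul_eq_mul, Finset.card_univ, ← Nat.card_eq_fintype_card, ← hcard, ← hI]
  · obtain ⟨k, hk⟩ : ∃ k, q + 1 = 4 * k := ⟨(q + 1) / 4, by omega⟩
    rw [hk, Nat.mul_div_cancel_left _ (by norm_num : 0 < 4)]
    ring
  · intro b _
    haveI := (psl (F := F) 3).T_cyclic b.1 (invol_SS b.2.1 b.2.2)
    refine cyclic_even_count ⟨(q + 1) / 8, by omega⟩ ?_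
    have := card_T_invol D b.2.1 b.2.2
    omega

theorem odd_count (D : QData F m) : 8 * Nat.card {y : PSL // Odd (orderOf y)} = 3 * (q * (q ^ 2 - 1)) := by
  classical
  haveI := Fintype.ofFinite PSL
  have h1 := even_count D
  have h2 := card_PSL D
  have h3 : Nat.card {y : PSL // Odd (orderOf y)} + Nat.card {y : PSL // Even (orderOf y)} = Nat.card PSL := by
    rw [Nat.card_congr (Equiv.subtypeEquivRight fun y : PSL => Nat.not_even_iff_odd.symm),
      Nat.card_eq_fintype_card, Nat.card_eq_fintype_card, Fintype.card_subtype_compl, Nat.card_eq_fintype_card,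
      Nat.sub_add_cancel (Fintype.card_subtype_le _)]
  omega

/-- The orders of the elements of odd order. -/
theorem odd_orders (D : QData F m) {y : PSL} (h : Odd (orderOf y)) :
    orderOf y ∣ (q - 1) / 2 ∨ orderOf y ∣ (q + 1) / 4 ∨ orderOf y = 3 := by
  rcases (PSL2Spectrum.psl_orders (F := F) 3 (orderOf y)).mp ⟨y, rfl⟩ with h' | h' | h'
  · rw [D.gcd_two] at h'; exact Or.inl h'
  · rw [D.gcd_two] at h'
    obtain ⟨h8, -⟩ := D.mod
    rw [show (q + 1) / 2 = 2 * ((q + 1) / 4) by omega] at h'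
    exact Or.inr (Or.inl (Nat.Coprime.dvd_of_dvd_mul_left (Nat.coprime_two_right.mpr h) h'))
  · exact Or.inr (Or.inr h')

theorem exists_minus (D : QData F m) : ∃ x : PSL, orderOf x = (q + 1) / 4 := by
  refine (PSL2Spectrum.psl_orders (F := F) 3 _).mpr (Or.inr (Or.inl ?_))
  obtain ⟨h8, -⟩ := D.mod
  rw [D.gcd_two]
  exact ⟨2, by omega⟩

theorem exists_three : ∃ x : PSL, orderOf x = 3 := exists_order_p 3

end CfsgLib.ReeTori
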