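import Mathlib
import Cfsg.Agent.Lib.ReeTori.PSLFacts
import Cfsg.Agent.Lib.AbelianSylowInvolutions
import Cfsg.Agent.Lib.TwoByTwo

/-!
The abstract data of a small Ree group, its involutions and the normaliser of a Sylow 2-subgroup.
-/

set_option autoImplicit false
set_option linter.unusedSectionVars false
set_option linter.style.haveILetI false
set_option linter.deprecated false
set_option linter.unusedVariables false

namespace CfsgLib.ReeTori

open CfsgLib.DicksonFull
open CfsgLib.PSL2 (mk)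

section generic

variable {G : Type*} [Group G]

/-- An element conjugated. -/
theorem conj_ne_one {g x : G} (hx : x ≠ 1) : g * x * g⁻¹ ≠ 1 := fun e => hx (by
  rw [mul_inv_eq_one, mul_eq_left] at e; exact e)

theorem orderOf_conj' (g x : G) : orderOf (g * x * g⁻¹) = orderOf x :=
  (MulAut.conj g).orderOf_eq x

theorem invol_conj_of {g x : G} (hx : x * x = 1) : g * x * g⁻¹ * (g * x * g⁻¹) = 1 := by
  rw [show g * x * g⁻¹ * (g * x * g⁻¹) = g * (x * x) * g⁻¹ by group, hx, mul_one, mul_inv_cancel]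

theorem orderOf_invol {x : G} (h1 : x ≠ 1) (h : x * x = 1) : orderOf x = 2 :=
  orderOf_eq_prime (by rw [pow_two]; exact h) h1

theorem commute_conj_iff {g x y : G} : Commute (g * x * g⁻¹) (g * y * g⁻¹) ↔ Commute x y :=
  commute_map_iff (f := (MulAut.conj g).toMonoidHom) (MulAut.conj g).injective

variable [Finite G]

/-- A subgroup intersecting its other conjugates trivially covers `|G : N(A)| (|A| - 1)` non-identity elements. -/
theorem ti_count (A : Subgroup G)
    (hTI : ∀ g x : G, x ∈ A → x ≠ 1 → g * x * g⁻¹ ∈ A → g ∈ Subgroup.normalizer (A : Set G)) :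
    Nat.card {z : G // z ≠ 1 ∧ ∃ g : G, g * z * g⁻¹ ∈ A} * Nat.card (Subgroup.normalizer (A : Set G)) =
      Nat.card G * (Nat.card A - 1) := by
  classical
  haveI := Fintype.ofFinite G
  let Z := {z : G // z ≠ 1 ∧ ∃ g : G, g * z * g⁻¹ ∈ A}
  let N := Subgroup.normalizer (A : Set G)
  choose c hc using fun z : Z => z.2.2
  let f : Z × N → G × {x : A // x ≠ 1} := fun s =>
    (((s.2 : G) * c s.1)⁻¹, ⟨⟨(s.2 : G) * c s.1 * s.1.1 * ((s.2 : G) * c s.1)⁻¹, by
      rw [show (s.2 : G) * c s.1 * s.1.1 * ((s.2 : G) * c s.1)⁻¹ = s.2 * (c s.1 * s.1.1 * (c s.1)⁻¹) * (s.2 : G)⁻¹ by group]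
      exact (Subgroup.mem_normalizer_iff.mp s.2.2 _).mp (hc s.1)⟩, fun e => conj_ne_one s.1.2.1 (congrArg Subtype.val e)⟩)
  have hf : Function.Bijective f := by
    constructor
    · rintro ⟨z, n⟩ ⟨z', n'⟩ h
      simp only [f, Prod.mk.injEq, inv_inj, Subtype.mk.injEq] at h
      obtain ⟨h1, h2⟩ := h
      rw [← h1, mul_left_inj, mul_right_inj] at h2
      obtain rfl : z = z' := Subtype.ext h2
      rw [mul_left_inj] at h1
      exact Prod.ext rfl (Subtype.ext h1)
    · rintro ⟨g, ⟨⟨x, hx⟩, hx1⟩⟩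
      have hx1' : x ≠ 1 := fun e => hx1 (Subtype.ext e)
      have hmem : g⁻¹ * (g * x * g⁻¹) * g⁻¹⁻¹ ∈ A := by
        rw [inv_inv, show g⁻¹ * (g * x * g⁻¹) * g = x by group]; exact hx
      let z : Z := ⟨g * x * g⁻¹, conj_ne_one hx1', g⁻¹, hmem⟩
      have hn : g⁻¹ * (c z)⁻¹ ∈ N := by
        refine hTI _ (c z * z.1 * (c z)⁻¹) (hc z) (conj_ne_one z.2.1) ?_
        rw [show g⁻¹ * (c z)⁻¹ * (c z * z.1 * (c z)⁻¹) * (g⁻¹ * (c z)⁻¹)⁻¹ = g⁻¹ * z.1 * g⁻¹⁻¹ by group]
        exact hmem
      refine ⟨(z, ⟨_, hn⟩), ?_⟩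
      have e : g⁻¹ * (c z)⁻¹ * c z = g⁻¹ := by group
      refine Prod.ext ?_ (Subtype.ext (Subtype.ext ?_))
      · show (g⁻¹ * (c z)⁻¹ * c z)⁻¹ = g
        rw [e, inv_inv]
      · show g⁻¹ * (c z)⁻¹ * c z * (g * x * g⁻¹) * (g⁻¹ * (c z)⁻¹ * c z)⁻¹ = x
        rw [e]
        group
  rw [← Nat.card_prod, Nat.card_congr (Equiv.ofBijective f hf), Nat.card_prod]
  congr 1
  rw [Nat.card_eq_fintype_card, Fintype.card_subtype_compl, Fintype.card_subtype_eq, ← Nat.card_eq_fintype_card]

/-- Subgroups of prime order are conjugate when the Sylow subgroups are cyclic. -/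
theorem conj_of_cyclic_sylow {r : ℕ} [Fact r.Prime] (hcyc : ∀ P : Sylow r G, IsCyclic (P : Subgroup G)) {x y : G}
    (hx : orderOf x = r) (hy : orderOf y = r) : ∃ g : G, g * x * g⁻¹ ∈ Subgroup.zpowers y := by
  classical
  obtain ⟨P, hP⟩ := (IsPGroup.of_card (n := 1) (by rw [Nat.card_zpowers, hx, pow_one]) :
    IsPGroup r (Subgroup.zpowers x)).exists_le_sylow
  obtain ⟨Q, hQ⟩ := (IsPGroup.of_card (n := 1) (by rw [Nat.card_zpowers, hy, pow_one]) :
    IsPGroup r (Subgroup.zpowers y)).exists_le_sylow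
  obtain ⟨g, hg⟩ := MulAction.exists_smul_eq G P Q
  have hgx : g * x * g⁻¹ ∈ (Q : Subgroup G) := by
    rw [← hg, Sylow.coe_subgroup_smul]
    exact Subgroup.smul_mem_pointwise_smul x (MulAut.conj g) _ (hP (Subgroup.mem_zpowers x))
  refine ⟨g, ?_⟩
  haveI := hcyc Q
  haveI := Fintype.ofFinite (Q : Subgroup G)
  let y' : (Q : Subgroup G) := ⟨y, hQ (Subgroup.mem_zpowers y)⟩
  let x' : (Q : Subgroup G) := ⟨g * x * g⁻¹, hgx⟩
  have hy' : orderOf y' = r := by rw [Subgroup.orderOf_mk, hy]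
  have hx' : x' ^ r = 1 := by
    refine Subtype.ext ?_
    show (g * x * g⁻¹) ^ r = 1
    rw [conj_pow, orderOf_dvd_iff_pow_eq_one.mp (dvd_of_eq hx), mul_one, mul_inv_cancel]
  letI := IsCyclic.commGroup (α := (Q : Subgroup G))
  have hle : Subgroup.zpowers y' ≤ (powMonoidHom r : (Q : Subgroup G) →* (Q : Subgroup G)).ker := by
    rw [Subgroup.zpowers_le, MonoidHom.mem_ker, powMonoidHom_apply]
    exact orderOf_dvd_iff_pow_eq_one.mp (dvd_of_eq hy')
  have heq := Subgroup.eq_of_le_of_card_ge hle (by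
    rw [IsCyclic.card_powMonoidHom_ker, Nat.card_zpowers, hy']
    exact Nat.le_of_dvd (Fact.out : r.Prime).pos (Nat.gcd_dvd_right _ _))
  have hmem : x' ∈ Subgroup.zpowers y' := by rw [heq]; exact hx'
  obtain ⟨k, hk⟩ := Subgroup.mem_zpowers_iff.mp hmem
  exact Subgroup.mem_zpowers_iff.mpr ⟨k, congrArg Subtype.val hk⟩

end generic

/-- The data of a small Ree group. -/
structure Ree (G : Type*) [Group G] (F : Type*) [Field F] [Fintype F] (m : ℕ) where
  data : QData F m
  card_G : Nat.card G = Fintype.card F ^ 3 * (Fintype.card F - 1) * (Fintype.card F ^ 3 + 1)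
  no_two : ∀ H : Subgroup G, H.index ≠ 2
  a : G
  a_ne : a ≠ 1
  a_sq : a * a = 1
  ι : Matrix.ProjectiveSpecialLinearGroup (Fin 2) F →* G
  ι_inj : Function.Injective ι
  a_comm : ∀ z, Commute a (ι z)
  a_notin : ∀ z, ι z ≠ a
  cent : ∀ y : G, Commute y a → ∃ z, y = ι z ∨ y = a * ι z
  syl : ∀ S : Sylow 2 G, Nat.card S = 8 ∧ ∀ x ∈ S, x * x = 1
  U : Subgroup G
  card_U : Nat.card U = Fintype.card F ^ 3
  U_pow : ∀ u ∈ U, u ^ 9 = 1
  U_nine : ∃ u ∈ U, orderOf u = 9
  U_ti : ∀ g u : G, u ∈ U → u ≠ 1 → g * u * g⁻¹ ∈ U → g ∈ Subgroup.normalizer (U : Set G)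
  card_NU : Nat.card (Subgroup.normalizer (U : Set G)) = Fintype.card F ^ 3 * (Fintype.card F - 1)
  H : Subgroup G
  N : Subgroup G
  H_cyclic : IsCyclic H
  card_H : Nat.card H = Fintype.card F - 1
  H_le : H ≤ N
  card_N : Nat.card N = 2 * (Fintype.card F - 1)
  N_inv : ∀ y ∈ N, y ∉ H → ∀ h ∈ H, y * h * y⁻¹ = h⁻¹
  split : ∀ x ∈ H, x * x ≠ 1 → ∀ y : G, y * x * y⁻¹ ∈ H → y ∈ N
  cyclic : ∀ {p : ℕ} [Fact p.Prime], 3 < p → ∀ P : Sylow p G, IsCyclic (P : Subgroup G)
  seven : ∀ {p : ℕ} [Fact p.Prime], p ∣ Fintype.card F ^ 3 + 1 → ¬ p ∣ Fintype.card F + 1 → p ≠ 2 →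
    ∀ x : G, orderOf x = p →
      (∀ y z : G, Commute y x → Commute z x → Commute y z) ∧
      (∀ A : Subgroup G, (∀ y ∈ A, Commute y x) → (Nat.card A).Coprime (Fintype.card F - 1) → IsCyclic A) ∧
      (∀ (y : G) (k : ℕ), y * x * y⁻¹ = x ^ k → ∃ j : ℕ, (k : ZMod p) = (Fintype.card F : ZMod p) ^ j)

variable {G : Type*} [Group G] [Finite G] {F : Type*} [Field F] [Fintype F] {m : ℕ} [Fact (Nat.Prime 3)]
  [CharP F 3] (R : Ree G F m)

local notation "PSL" => Matrix.ProjectiveSpecialLinearGroup (Fin 2) F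
local notation "q" => Fintype.card F

/-- The preimage in the centraliser of the involution of a subgroup of `PSL₂`. -/
def Ree.lift (W : Subgroup PSL) : Subgroup G where
  carrier := {y | ∃ w ∈ W, y = R.ι w ∨ y = R.a * R.ι w}
  one_mem' := ⟨1, one_mem W, Or.inl (map_one R.ι).symm⟩
  mul_mem' := by
    rintro y z ⟨v, hv, hy⟩ ⟨w, hw, hz⟩
    refine ⟨v * w, mul_mem hv hw, ?_⟩
    rcases hy with rfl | rfl <;> rcases hz with rfl | rfl <;> rw [map_mul]
    · exact Or.inl rfl
    · right; rw [← mul_assoc, ← (R.a_comm v).eq, mul_assoc]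
    · right; rw [mul_assoc]
    · left; rw [show R.a * R.ι v * (R.a * R.ι w) = R.a * (R.ι v * R.a) * R.ι w by group, ← (R.a_comm v).eq,
        ← mul_assoc, R.a_sq, one_mul]
  inv_mem' := by
    rintro y ⟨w, hw, hy⟩
    refine ⟨w⁻¹, inv_mem hw, ?_⟩
    rcases hy with rfl | rfl
    · exact Or.inl (map_inv _ _).symm
    · right
      rw [_root_.mul_inv_rev, inv_eq_of_mul_eq_one_left R.a_sq, ← map_inv, ← (R.a_comm _).eq]

theorem ι_mem_lift {W : Subgroup PSL} {z : PSL} : R.ι z ∈ R.lift W ↔ z ∈ W := by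
  refine ⟨?_, fun h => ⟨z, h, Or.inl rfl⟩⟩
  rintro ⟨w, hw, h | h⟩
  · rwa [R.ι_inj h]
  · exact absurd (by rw [map_mul, map_inv, h, mul_inv_cancel_right] : R.ι (z * w⁻¹) = R.a) (R.a_notin _)

theorem aι_mem_lift {W : Subgroup PSL} {z : PSL} : R.a * R.ι z ∈ R.lift W ↔ z ∈ W := by
  refine ⟨?_, fun h => ⟨z, h, Or.inr rfl⟩⟩
  rintro ⟨w, hw, h | h⟩
  · exact absurd (by rw [map_mul, map_inv, ← h, mul_inv_cancel_right] : R.ι (w * z⁻¹) = R.a) (R.a_notin _)
  · rwa [R.ι_inj (mul_left_cancel h)]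

theorem a_mem_lift (W : Subgroup PSL) : R.a ∈ R.lift W := ⟨1, one_mem W, Or.inr (by rw [map_one, mul_one])⟩

theorem aι_ne (v w : PSL) : R.a * R.ι v ≠ R.ι w := fun e => R.a_notin (w * v⁻¹) (by
  rw [map_mul, map_inv, ← e, mul_inv_cancel_right])

theorem card_lift' (W : Subgroup PSL) : Nat.card (R.lift W) = 2 * Nat.card W := by
  classical
  haveI := Fintype.ofFinite PSL
  let f : Bool × W → R.lift W := fun s =>
    ⟨if s.1 then R.a * R.ι s.2 else R.ι s.2, by
      split_ifs
      · exact (aι_mem_lift R).mpr s.2.2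
      · exact (ι_mem_lift R).mpr s.2.2⟩
  have hf : Function.Bijective f := by
    constructor
    · rintro ⟨i, v⟩ ⟨j, w⟩ h
      have h' := congrArg Subtype.val h
      cases i <;> cases j <;> simp only [f, if_true, Bool.false_eq_true, if_false] at h'
      · exact Prod.ext rfl (Subtype.ext (R.ι_inj h'))
      · exact absurd h'.symm (aι_ne R _ _)
      · exact absurd h' (aι_ne R _ _)
      · exact Prod.ext rfl (Subtype.ext (R.ι_inj (mul_left_cancel h')))
    · rintro ⟨y, w, hw, h | h⟩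
      · exact ⟨(false, ⟨w, hw⟩), Subtype.ext (by simp [f, h])⟩
      · exact ⟨(true, ⟨w, hw⟩), Subtype.ext (by simp [f, h])⟩
  rw [← Nat.card_congr (Equiv.ofBijective f hf), Nat.card_prod, Nat.card_eq_fintype_card (α := Bool), Fintype.card_bool]

theorem centralizer_a : Subgroup.centralizer {R.a} = R.lift ⊤ := by
  ext y
  rw [Subgroup.mem_centralizer_singleton_iff]
  constructor
  · intro h
    obtain ⟨z, hz⟩ := R.cent y h
    exact ⟨z, trivial, hz⟩
  · rintro ⟨w, -, h | h⟩ <;> subst h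
    · exact (R.a_comm w).eq.symm
    · exact ((Commute.refl R.a).mul_right (R.a_comm w)).eq.symm

theorem card_cent_a : Nat.card (Subgroup.centralizer {R.a}) = q * (q ^ 2 - 1) := by
  rw [centralizer_a, card_lift', Subgroup.card_top, card_PSL R.data]

include R in
theorem no_four (y : G) : orderOf y ≠ 4 := by
  intro h
  obtain ⟨S, hS⟩ := (IsPGroup.of_card (n := 2) (by rw [Nat.card_zpowers, h]; norm_num) :
    IsPGroup 2 (Subgroup.zpowers y)).exists_le_sylow
  have h2 := (R.syl S).2 y (hS (Subgroup.mem_zpowers y))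
  have := orderOf_dvd_of_pow_eq_one (x := y) (n := 2) (by rw [pow_two]; exact h2)
  rw [h] at this
  exact absurd this (by norm_num)

include R in
theorem syl_comm (S : Sylow 2 G) : IsMulCommutative (S : Subgroup G) := by
  refine ⟨⟨fun x y => Subtype.ext ?_⟩⟩
  have hx := (R.syl S).2 x x.2
  have hy := (R.syl S).2 y y.2
  have hxy := (R.syl S).2 _ (mul_mem x.2 y.2)
  show (x : G) * y = y * x
  calc (x : G) * y = ((x : G) * y)⁻¹ := (inv_eq_of_mul_eq_one_left hxy).symm
    _ = _ := by rw [_root_.mul_inv_rev, inv_eq_of_mul_eq_one_left hy, inv_eq_of_mul_eq_one_left hx]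

include R in
/-- The normaliser of a Sylow 2-subgroup is transitive on its involutions. -/
theorem syl_trans (S : Sylow 2 G) {x y : G} (hx : x ∈ S) (hx1 : x ≠ 1) (hy : y ∈ S) (hy1 : y ≠ 1) :
    ∃ n ∈ Subgroup.normalizer ((S : Subgroup G) : Set G), n * x * n⁻¹ = y := by
  classical
  haveI := syl_comm R S
  obtain ⟨N, hN⟩ : ∃ N, N = Subgroup.normalizer ((S : Subgroup G) : Set G) := ⟨_, rfl⟩
  rw [← hN]
  haveI := Fintype.ofFinite G
  have hSN : (S : Subgroup G) ≤ N := hN ▸ Subgroup.le_normalizer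
  let O : G → Finset G := fun z => Finset.univ.filter fun w => ∃ n ∈ N, n * z * n⁻¹ = w
  let T : Finset G := Finset.univ.filter fun w => w ∈ (S : Subgroup G) ∧ w ≠ 1
  have hmemO : ∀ z w, w ∈ O z ↔ ∃ n ∈ N, n * z * n⁻¹ = w := fun z w => by simp [O]
  have hT : T.card = 7 := by
    have h1 : (Finset.univ.filter fun w => w ∈ (S : Subgroup G)).card = 8 := by
      rw [← (R.syl S).1]
      show _ = Nat.card (S : Subgroup G)
      rw [Nat.card_eq_fintype_card, Fintype.card_subtype]
    have h2 : T = (Finset.univ.filter fun w => w ∈ (S : Subgroup G)).erase 1 := by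
      ext w; simp [T, and_comm]
    rw [h2, Finset.card_erase_of_mem (by simp), h1]
  have hsub : ∀ z ∈ T, O z ⊆ T := by
    intro z hz w hw
    simp only [T, Finset.mem_filter, Finset.mem_univ, true_and] at hz ⊢
    obtain ⟨n, hn, rfl⟩ := (hmemO z w).mp hw
    exact ⟨(Subgroup.mem_normalizer_iff.mp (hN ▸ hn) z).mp hz.1, conj_ne_one hz.2⟩
  have hself : ∀ z, z ∈ O z := fun z => (hmemO z z).mpr ⟨1, one_mem N, by simp⟩
  have hdisj : ∀ z w, w ∉ O z → Disjoint (O z) (O w) := by
    intro z w hw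
    rw [Finset.disjoint_left]
    intro v hv hv'
    obtain ⟨n, hn, rfl⟩ := (hmemO z v).mp hv
    obtain ⟨k, hk, e⟩ := (hmemO w _).mp hv'
    refine hw ((hmemO z w).mpr ⟨k⁻¹ * n, mul_mem (inv_mem hk) hn, ?_⟩)
    calc k⁻¹ * n * z * (k⁻¹ * n)⁻¹ = k⁻¹ * (n * z * n⁻¹) * k := by group
      _ = w := by rw [← e]; group
  have hbig : ∀ z ∈ T, Odd (O z).card ∧ 3 ≤ (O z).card := by
    intro z hz
    simp only [T, Finset.mem_filter, Finset.mem_univ, true_and] at hz
    let z' : N := ⟨z, hSN hz.1⟩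
    have hc : (O z).card = Nat.card (ConjClasses.mk z').carrier := by
      rw [← Nat.card_eq_finsetCard]
      refine (Nat.card_congr (α := (ConjClasses.mk z').carrier) (β := O z) ⟨fun w => ⟨w.1.1, (hmemO z _).mpr ?_⟩, fun w => ⟨⟨w.1, ?_⟩, ?_⟩, fun w => rfl, fun w => rfl⟩).symm
      · obtain ⟨c, hc⟩ := isConj_iff.mp ((ConjClasses.mk_eq_mk_iff_isConj.mp (ConjClasses.mem_carrier_iff_mk_eq.mp w.2)).symm)
        exact ⟨c, c.2, congrArg Subtype.val hc⟩
      · obtain ⟨n, hn, e⟩ := (hmemO z w.1).mp w.2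
        rw [← e]
        exact mul_mem (mul_mem hn (hSN hz.1)) (inv_mem hn)
      · obtain ⟨n, hn, e⟩ := (hmemO z w.1).mp w.2
        rw [ConjClasses.mem_carrier_iff_mk_eq, ConjClasses.mk_eq_mk_iff_isConj]
        exact (isConj_iff.mpr ⟨⟨n, hn⟩, Subtype.ext e⟩).symm
    have hmul := CfsgLib.TwoByTwo.card_carrier_mul_centralizer z'
    rw [← hc] at hmul
    have h8 : 8 ∣ Nat.card (Subgroup.centralizer ({z'} : Set N)) := by
      rw [← (R.syl S).1]
      show Nat.card (S : Subgroup G) ∣ _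
      rw [← Nat.card_congr (Subgroup.subgroupOfEquivOfLe hSN).toEquiv]
      refine Subgroup.card_dvd_of_le fun n hn => Subgroup.mem_centralizer_singleton_iff.mpr (Subtype.ext ?_)
      exact Subgroup.mul_comm_of_mem_isMulCommutative (S : Subgroup G) hn hz.1
    have hodd : Odd (O z).card := by
      rw [← Nat.not_even_iff_odd]
      intro he
      obtain ⟨c, hc⟩ := h8
      have h16 : 2 * 8 ∣ Nat.card N := by
        rw [← hmul, hc]
        exact Nat.mul_dvd_mul he.two_dvd (dvd_mul_right 8 c)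
      refine S.not_dvd_index ?_
      have h17 : 2 * 8 ∣ Nat.card (S : Subgroup G) * (S : Subgroup G).index := by
        rw [Subgroup.card_mul_index]; exact h16.trans N.card_subgroup_dvd_card
      rw [show Nat.card (S : Subgroup G) = 8 from (R.syl S).1, mul_comm 2 8] at h17
      exact Nat.dvd_of_mul_dvd_mul_left (by norm_num) h17
    refine ⟨hodd, ?_⟩
    by_contra h3
    obtain ⟨k, hk⟩ := hodd
    have h1 : (O z).card = 1 := by omega
    obtain ⟨H, hH⟩ := CfsgLib.AbelianInvolutions.exists_index_two_of_fixed S hz.1 hz.2 fun n hn => by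
      obtain ⟨w, hw⟩ := Finset.card_eq_one.mp h1
      have e1 : z = w := by have := hself z; rwa [hw, Finset.mem_singleton] at this
      have e2 : n * z * n⁻¹ = w := by
        have := (hmemO z (n * z * n⁻¹)).mpr ⟨n, hN ▸ hn, rfl⟩
        rwa [hw, Finset.mem_singleton] at this
      rw [← e1, mul_inv_eq_iff_eq_mul] at e2
      exact e2
    exact R.no_two H hH
  have hxT : x ∈ T := by simp [T, hx, hx1]; exact hx
  have hyT : y ∈ T := by simp [T, hy1]; exact hy
  by_contra hne
  have hyO : y ∉ O x := fun h => hne ((hmemO x y).mp h)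
  have hu : O x ∪ O y ⊆ T := Finset.union_subset (hsub x hxT) (hsub y hyT)
  have hcu := Finset.card_union_of_disjoint (hdisj x y hyO)
  obtain ⟨⟨i, hi⟩, hi3⟩ := hbig x hxT
  obtain ⟨⟨j, hj⟩, hj3⟩ := hbig y hyT
  have hlt : (O x ∪ O y).card < T.card := by
    have := Finset.card_le_card hu
    omega
  obtain ⟨z, hz, hz'⟩ := Finset.exists_mem_notMem_of_card_lt_card hlt
  rw [Finset.mem_union, not_or] at hz'
  have hd : Disjoint (O x ∪ O y) (O z) :=
    Finset.disjoint_union_left.mpr ⟨hdisj x z hz'.1, hdisj y z hz'.2⟩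
  have := Finset.card_le_card (Finset.union_subset hu (hsub z hz))
  rw [Finset.card_union_of_disjoint hd] at this
  obtain ⟨-, hz3⟩ := hbig z hz
  omega

include R in
/-- All involutions are conjugate. -/
theorem invol_conj_a {t : G} (h1 : t ≠ 1) (h : t * t = 1) : ∃ g : G, g * t * g⁻¹ = R.a := by
  haveI := Fact.mk Nat.prime_two
  have hp : ∀ {x : G}, x ≠ 1 → x * x = 1 → IsPGroup 2 (Subgroup.zpowers x) := fun hx1 hx =>
    IsPGroup.of_card (n := 1) (by rw [Nat.card_zpowers, orderOf_invol hx1 hx, pow_one])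
  obtain ⟨S, hS⟩ := (hp h1 h).exists_le_sylow
  obtain ⟨T, hT⟩ := (hp R.a_ne R.a_sq).exists_le_sylow
  obtain ⟨g, hg⟩ := MulAction.exists_smul_eq G S T
  have hgt : g * t * g⁻¹ ∈ (T : Subgroup G) := by
    rw [← hg, Sylow.coe_subgroup_smul]
    exact Subgroup.smul_mem_pointwise_smul t (MulAut.conj g) _ (hS (Subgroup.mem_zpowers t))
  obtain ⟨n, -, hn⟩ := syl_trans R T hgt (conj_ne_one h1) (hT (Subgroup.mem_zpowers R.a)) R.a_ne
  exact ⟨n * g, by rw [← hn]; group⟩

include R in
theorem card_invol : Nat.card {t : G // t ≠ 1 ∧ t * t = 1} * (q * (q ^ 2 - 1)) = Nat.card G := by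
  rw [← card_cent_a R, ← CfsgLib.TwoByTwo.card_carrier_mul_centralizer R.a]
  congr 1
  refine Nat.card_congr (Equiv.subtypeEquivRight fun t => ?_)
  rw [ConjClasses.mem_carrier_iff_mk_eq, ConjClasses.mk_eq_mk_iff_isConj]
  constructor
  · rintro ⟨h1, h⟩
    exact isConj_iff.mpr (invol_conj_a R h1 h)
  · intro h
    obtain ⟨g, rfl⟩ := isConj_iff.mp h.symm
    exact ⟨conj_ne_one R.a_ne, invol_conj_of R.a_sq⟩

theorem invol_PSL_of {z : PSL} (h : R.ι z * R.ι z = 1) : z * z = 1 := R.ι_inj (by rw [map_mul, h, map_one])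

/-- In a four-group of `PSL₂`, an element fixing one involution and normalising fixes all. -/
theorem four_norm_fix (D : QData F m) {b c y : PSL} (hb1 : b ≠ 1) (hb : b * b = 1) (hc1 : c ≠ 1) (hc : c * c = 1)
    (hbc : b ≠ c) (hcm : Commute b c) (hyb : Commute y b) (hy : y * c * y⁻¹ ≠ c) : y * c * y⁻¹ ≠ b * c := by
  intro h
  have hs := invol_SS hb1 hb
  have hcT : c ∉ (psl (F := F) 3).T b := fun h => by
    rcases involution_unique (psl 3) hs (by rw [pow_two]; exact hb) h (by rw [pow_two]; exact hc) with e | e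
    · exact hc1 e
    · exact hbc e.symm
  have hbn : ∀ {z : PSL}, Commute z b → z * b * z⁻¹ ∈ (psl (F := F) 3).T b := fun {z} h => by
    rw [h.eq, mul_inv_cancel_right]
    exact (psl 3).mem_T b hs
  -- a square root of `b` in the torus
  have key : ∀ w, w ∈ (psl (F := F) 3).T b → w * w ≠ b := by
    intro w hw hwb
    have h4 : orderOf w = 2 ^ (1 + 1) := orderOf_eq_prime_pow (by rw [pow_one, pow_two, hwb]; exact hb1)
      (by rw [show (2 : ℕ) ^ (1 + 1) = 2 + 2 from rfl, pow_add, pow_two, hwb, hb])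
    have hd : (2 : ℕ) ^ (1 + 1) ∣ Nat.card ((psl (F := F) 3).T b) := h4 ▸ Subgroup.orderOf_dvd_natCard _ hw
    have := card_T_invol D hb1 hb
    obtain ⟨h8, -⟩ := D.mod
    omega
  by_cases hyT : y ∈ (psl (F := F) 3).T b
  · have h1 := ((psl (F := F) 3).T_norm b c hs (hbn hcm.symm) hcT).1 y hyT
    rw [inv_eq_of_mul_eq_one_left hc] at h1
    have h2 : c * y⁻¹ * c = y := by
      have := congrArg (·⁻¹) h1
      simp only [_root_.mul_inv_rev, inv_inv, inv_eq_of_mul_eq_one_left hc] at this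
      rw [← mul_assoc] at this
      exact this
    refine key y hyT ?_
    calc y * y = y * (c * y⁻¹ * c) := by rw [h2]
      _ = (y * c * y⁻¹) * c := by group
      _ = b := by rw [h, mul_assoc, hc, mul_one]
  · have hy2 := inverter_sq (psl 3) hs (hbn hyb) hyT
    have hyy : y⁻¹ = y := inv_eq_of_mul_eq_one_left (by rw [← pow_two]; exact hy2)
    have hcy : Commute (y * c) b := hyb.mul_left hcm.symm
    have hsq : y * c * (y * c) = b := by
      calc y * c * (y * c) = (y * c * y⁻¹) * c := by rw [hyy]; group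
        _ = b := by rw [h, mul_assoc, hc, mul_one]
    by_cases hyc : y * c ∈ (psl (F := F) 3).T b
    · exact key _ hyc hsq
    · have := inverter_sq (psl 3) hs (hbn hcy) hyc
      rw [pow_two, hsq] at this
      exact hb1 this

include R in
/-- A Sylow 2-subgroup with its centraliser and the order of its normaliser. -/
theorem exists_sylow : ∃ S : Sylow 2 G, Subgroup.centralizer ((S : Subgroup G) : Set G) = S ∧
    Nat.card (Subgroup.normalizer ((S : Subgroup G) : Set G)) = 168 := by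
  classical
  haveI := Fact.mk Nat.prime_two
  obtain ⟨g, b, c, hg3, -, hb, hb1, hc, hc1, hbc, hcm, hgb, hgc⟩ := exists_cycle R.data
  obtain ⟨V, hV⟩ : ∃ V, V = PSL2Klein.four b c hb hc hcm := ⟨_, rfl⟩
  have hVc : Nat.card V = 4 := by rw [hV]; exact (PSL2Klein.four_klein hb hc hcm hb1 hc1 hbc).card_four
  have hVm : ∀ z, z ∈ V ↔ z = 1 ∨ z = b ∨ z = c ∨ z = b * c := fun z => by
    rw [hV]
    show z ∈ ({1, b, c, b * c} : Set PSL) ↔ _
    simp
  have h8 : Nat.card (R.lift V) = 8 := by rw [card_lift', hVc]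
  let S : Sylow 2 G := Sylow.ofCard (R.lift V) (by
    obtain ⟨P⟩ : Nonempty (Sylow 2 G) := inferInstance
    rw [h8, ← (R.syl P).1, Sylow.card_eq_multiplicity])
  have hS : (S : Subgroup G) = R.lift V := Sylow.coe_ofCard _ _
  haveI := syl_comm R S
  refine ⟨S, le_antisymm (fun y hy => ?_) (fun y hy => Subgroup.mem_centralizer_iff.mpr fun z hz =>
    Subgroup.mul_comm_of_mem_isMulCommutative (S : Subgroup G) hz hy), ?_⟩
  · rw [Subgroup.mem_centralizer_iff] at hy
    rw [hS] at hy ⊢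
    obtain ⟨z, hz⟩ := R.cent y (hy R.a (a_mem_lift R V)).symm
    have hcomm : ∀ v ∈ V, Commute z v := by
      intro v hv
      have h := hy _ ((ι_mem_lift R).mpr hv)
      refine R.ι_inj ?_
      rw [map_mul, map_mul]
      rcases hz with rfl | rfl
      · exact h.symm
      · have h' : R.a * (R.ι v * R.ι z) = R.a * (R.ι z * R.ι v) := by
          rw [← mul_assoc, (R.a_comm v).eq, mul_assoc, h, mul_assoc]
        exact (mul_left_cancel h').symm
    have hzV : z ∈ V := (hVm z).mpr (four_cent hb1 hb hc1 hc hbc hcm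
      (hcomm b ((hVm b).mpr (by simp))) (hcomm c ((hVm c).mpr (by simp))))
    exact ⟨z, hzV, hz⟩
  -- the normaliser
  obtain ⟨N, hN⟩ : ∃ N, N = Subgroup.normalizer ((S : Subgroup G) : Set G) := ⟨_, rfl⟩
  rw [← hN]
  have hSN : (S : Subgroup G) ≤ N := hN ▸ Subgroup.le_normalizer
  have haS : R.a ∈ (S : Subgroup G) := hS ▸ a_mem_lift R V
  let a' : N := ⟨R.a, hSN haS⟩
  have hcar : Nat.card (ConjClasses.mk a').carrier = 7 := by
    haveI := Fintype.ofFinite G
    have e : (ConjClasses.mk a').carrier ≃ {w : (S : Subgroup G) // w ≠ 1} :=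
      { toFun := fun w => ⟨⟨w.1.1, by
            obtain ⟨n, hn⟩ := isConj_iff.mp ((ConjClasses.mk_eq_mk_iff_isConj.mp (ConjClasses.mem_carrier_iff_mk_eq.mp w.2)).symm)
            rw [← hn]
            exact (Subgroup.mem_normalizer_iff.mp (show (n : G) ∈ Subgroup.normalizer ((S : Subgroup G) : Set G) from hN ▸ n.2) R.a).mp haS⟩,
          fun e => by
            obtain ⟨n, hn⟩ := isConj_iff.mp ((ConjClasses.mk_eq_mk_iff_isConj.mp (ConjClasses.mem_carrier_iff_mk_eq.mp w.2)).symm)
            have h1 := congrArg Subtype.val hn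
            exact conj_ne_one R.a_ne (h1.trans (congrArg Subtype.val e))⟩
        invFun := fun w => ⟨⟨w.1.1, hSN w.1.2⟩, by
          obtain ⟨n, hn, e⟩ := syl_trans R S haS R.a_ne w.1.2 (fun e => w.2 (Subtype.ext e))
          rw [ConjClasses.mem_carrier_iff_mk_eq, ConjClasses.mk_eq_mk_iff_isConj]
          exact (isConj_iff.mpr ⟨(⟨n, hN ▸ hn⟩ : N), Subtype.ext e⟩).symm⟩
        left_inv := fun w => rfl
        right_inv := fun w => rfl }
    rw [Nat.card_congr e, Nat.card_eq_fintype_card, Fintype.card_subtype_compl, Fintype.card_subtype_eq,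
      ← Nat.card_eq_fintype_card]
    show Nat.card (S : Subgroup G) - 1 = 7
    rw [hS, h8]
  have hnorm : ∀ z : PSL, z ∈ Subgroup.normalizer (V : Set PSL) ↔ R.ι z ∈ N := by
    intro z
    rw [hN, hS, Subgroup.mem_normalizer_iff, Subgroup.mem_normalizer_iff]
    constructor
    · intro hz y
      constructor
      · rintro ⟨v, hv, rfl | rfl⟩
        · exact ⟨_, (hz v).mp hv, Or.inl (by rw [map_mul, map_mul, map_inv])⟩
        · exact ⟨_, (hz v).mp hv, Or.inr (by rw [map_mul, map_mul, map_inv, ← mul_assoc (R.ι z), ← (R.a_comm z).eq]; group)⟩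
      · rintro ⟨v, hv, h⟩
        refine ⟨z⁻¹ * v * z, ?_, ?_⟩
        · rw [hz, show z * (z⁻¹ * v * z) * z⁻¹ = v by group]; exact hv
        · rcases h with h | h
          · left; rw [map_mul, map_mul, map_inv, ← h]; group
          · right
            rw [map_mul, map_mul, map_inv, show y = (R.ι z)⁻¹ * (R.ι z * y * (R.ι z)⁻¹) * R.ι z by group, h,
              ← mul_assoc (R.ι z)⁻¹, ← ((R.a_comm z).inv_right).eq]
            group
    · intro hz v
      have := hz (R.ι v)
      rwa [← map_inv, ← map_mul, ← map_mul, ι_mem_lift, ι_mem_lift] at this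
  have hcent : Nat.card (Subgroup.centralizer ({a'} : Set N)) = 2 * Nat.card (Subgroup.normalizer (V : Set PSL)) := by
    rw [← card_lift' R]
    refine Nat.card_congr ⟨fun y => ⟨y.1.1, ?_⟩, fun y => ⟨⟨y.1, ?_⟩, ?_⟩, fun y => rfl, fun y => rfl⟩
    · obtain ⟨z, hz⟩ := R.cent y.1.1 (congrArg Subtype.val (Subgroup.mem_centralizer_singleton_iff.mp y.2))
      refine ⟨z, (hnorm z).mpr ?_, hz⟩
      rcases hz with h | h
      · exact h ▸ y.1.2
      · rw [show R.ι z = R.a⁻¹ * y.1.1 by rw [h, inv_mul_cancel_left]]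
        exact mul_mem (inv_mem (hSN haS)) y.1.2
    · obtain ⟨z, hz, h | h⟩ := y.2
      · rw [h]; exact (hnorm z).mp hz
      · rw [h]; exact mul_mem (hSN haS) ((hnorm z).mp hz)
    · rw [Subgroup.mem_centralizer_singleton_iff]
      refine Subtype.ext ?_
      obtain ⟨z, -, h | h⟩ := y.2 <;> show y.1 * R.a = R.a * y.1 <;> rw [h]
      · exact (R.a_comm z).eq.symm
      · exact ((Commute.refl R.a).mul_right (R.a_comm z)).eq.symm
  have hNV : Nat.card (Subgroup.normalizer (V : Set PSL)) = 12 := by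
    obtain ⟨M, hM⟩ : ∃ M, M = Subgroup.normalizer (V : Set PSL) := ⟨_, rfl⟩
    rw [← hM]
    have hVM : V ≤ M := hM ▸ Subgroup.le_normalizer
    let b' : M := ⟨b, hVM ((hVm b).mpr (by simp))⟩
    have hgM : g ∈ M := by
      rw [hM, Subgroup.mem_normalizer_iff]
      have hstep : ∀ v ∈ V, g * v * g⁻¹ ∈ V := by
        intro v hv
        rw [hVm] at hv ⊢
        rcases hv with rfl | rfl | rfl | rfl
        · left; group
        · right; right; left; exact hgb
        · right; right; right; exact hgc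
        · right; left
          rw [show g * (b * c) * g⁻¹ = (g * b * g⁻¹) * (g * c * g⁻¹) by group, hgb, hgc, ← mul_assoc, ← hcm,
            mul_assoc, hc, mul_one]
      intro v
      refine ⟨hstep v, fun h => ?_⟩
      have h2 := hstep _ (hstep _ h)
      have h3 : g * g * g = 1 := by rw [← hg3, pow_succ, pow_two]
      rwa [show g * (g * (g * v * g⁻¹) * g⁻¹) * g⁻¹ = g * g * g * v * (g * g * g)⁻¹ by group, h3, one_mul,
        inv_one, mul_one] at h2
    have hcar : Nat.card (ConjClasses.mk b').carrier = 3 := by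
      have hmem : ∀ w : M, w ∈ (ConjClasses.mk b').carrier ↔ (w : PSL) ∈ ({b, c, b * c} : Finset PSL) := by
        intro w
        rw [ConjClasses.mem_carrier_iff_mk_eq, ConjClasses.mk_eq_mk_iff_isConj]
        constructor
        · intro h
          obtain ⟨n, hn⟩ := isConj_iff.mp h.symm
          have h1 : (w : PSL) ∈ V := by
            rw [← hn]
            exact (Subgroup.mem_normalizer_iff.mp (show (n : PSL) ∈ Subgroup.normalizer (V : Set PSL) from hM ▸ n.2) b).mp ((hVm b).mpr (by simp))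
          have h2 : (w : PSL) ≠ 1 := by
            rw [← hn]; exact conj_ne_one hb1
          rcases (hVm _).mp h1 with e | e | e | e
          · exact absurd e h2
          all_goals simp [e]
        · intro h
          simp only [Finset.mem_insert, Finset.mem_singleton] at h
          refine (isConj_iff.mpr ?_).symm
          rcases h with e | e | e
          · exact ⟨1, Subtype.ext (by show 1 * b * (1 : PSL)⁻¹ = _; rw [e]; group)⟩
          · exact ⟨⟨g, hgM⟩, Subtype.ext (by show g * b * g⁻¹ = _; rw [hgb, e])⟩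
          · exact ⟨⟨g, hgM⟩ * ⟨g, hgM⟩, Subtype.ext (by
              show g * g * b * (g * g)⁻¹ = _
              rw [show g * g * b * (g * g)⁻¹ = g * (g * b * g⁻¹) * g⁻¹ by group, hgb, hgc, e])⟩
      have hle : ∀ z ∈ ({b, c, b * c} : Finset PSL), z ∈ M := by
        intro z hz
        simp only [Finset.mem_insert, Finset.mem_singleton] at hz
        exact hVM ((hVm z).mpr (by tauto))
      rw [Nat.card_congr (β := ({b, c, b * c} : Finset PSL))
        ⟨fun w => ⟨w.1.1, (hmem w.1).mp w.2⟩, fun w => ⟨⟨w.1, hle w.1 w.2⟩, (hmem _).mpr w.2⟩, fun w => rfl, fun w => rfl⟩,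
        Nat.card_eq_finsetCard]
      have h1 : b ≠ b * c := fun e => hc1 (mul_eq_left.mp e.symm)
      have h2 : c ≠ b * c := fun e => hb1 (mul_eq_right.mp e.symm)
      rw [Finset.card_insert_of_notMem (by simp [hbc, h1]), Finset.card_insert_of_notMem (by simp [h2]),
        Finset.card_singleton]
    have hcen : Nat.card (Subgroup.centralizer ({b'} : Set M)) = 4 := by
      rw [← hVc]
      refine Nat.card_congr ⟨fun y => ⟨y.1.1, ?_⟩, fun y => ⟨⟨y.1, hVM y.2⟩, ?_⟩, fun y => rfl, fun y => rfl⟩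
      · have hyb : Commute y.1.1 b := congrArg Subtype.val (Subgroup.mem_centralizer_singleton_iff.mp y.2)
        rw [hVm]
        refine four_cent hb1 hb hc1 hc hbc hcm hyb ?_
        have h1 : y.1.1 * c * (y.1.1)⁻¹ ∈ V :=
          (Subgroup.mem_normalizer_iff.mp (show y.1.1 ∈ Subgroup.normalizer (V : Set PSL) from hM ▸ y.1.2) c).mp ((hVm c).mpr (by simp))
        by_contra hne
        have hne' : y.1.1 * c * (y.1.1)⁻¹ ≠ c := fun e => hne (mul_inv_eq_iff_eq_mul.mp e)
        rcases (hVm _).mp h1 with e | e | e | e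
        · exact conj_ne_one hc1 e
        · refine hbc ?_
          rw [mul_inv_eq_iff_eq_mul, ← hyb.eq] at e
          exact (mul_left_cancel e).symm
        · exact hne' e
        · exact four_norm_fix R.data hb1 hb hc1 hc hbc hcm hyb hne' e
      · rw [Subgroup.mem_centralizer_singleton_iff]
        refine Subtype.ext ?_
        show y.1 * b = b * y.1
        rcases (hVm _).mp y.2 with e | e | e | e <;> rw [e]
        · simp
        · exact hcm.symm
        · rw [mul_assoc, ← hcm]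
    rw [← CfsgLib.TwoByTwo.card_carrier_mul_centralizer b', hcar, hcen]
  rw [← CfsgLib.TwoByTwo.card_carrier_mul_centralizer a', hcar, hcent, hNV]

include R in
theorem sylow_data (S : Sylow 2 G) : Subgroup.centralizer ((S : Subgroup G) : Set G) = S ∧
    Nat.card (Subgroup.normalizer ((S : Subgroup G) : Set G)) = 168 := by
  haveI := Fact.mk Nat.prime_two
  obtain ⟨S₀, h1, h2⟩ := exists_sylow R
  obtain ⟨g, rfl⟩ := MulAction.exists_smul_eq G S₀ S
  have hcoe : ((g • S₀ : Sylow 2 G) : Subgroup G) = (S₀ : Subgroup G).map (MulAut.conj g).toMonoidHom := by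
    rw [Sylow.coe_subgroup_smul]; rfl
  rw [hcoe, Subgroup.coe_map]
  constructor
  · ext y
    obtain ⟨y, rfl⟩ := (MulAut.conj g).surjective y
    rw [Subgroup.mem_centralizer_iff]
    conv_rhs => rw [show (MulAut.conj g) y = (MulAut.conj g).toMonoidHom y from rfl,
      Subgroup.mem_map_iff_mem (f := (MulAut.conj g).toMonoidHom) (MulAut.conj g).injective, ← h1,
      Subgroup.mem_centralizer_iff]
    constructor
    · intro h z hz
      exact (MulAut.conj g).injective (by rw [map_mul, map_mul]; exact h _ ⟨z, hz, rfl⟩)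
    · rintro h _ ⟨z, hz, rfl⟩
      show (MulAut.conj g) z * (MulAut.conj g) y = (MulAut.conj g) y * (MulAut.conj g) z
      rw [← map_mul, ← map_mul, h z hz]
  · rw [← Subgroup.coe_map, ← Subgroup.map_normalizer_eq_of_bijective (S₀ : Subgroup G) (f := (MulAut.conj g).toMonoidHom)
        (MulAut.conj g).bijective,
      Subgroup.card_map_of_injective (f := (MulAut.conj g).toMonoidHom) (MulAut.conj g).injective, h2]

end CfsgLib.ReeTori
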