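import Mathlib
import Cfsg.Agent.Lib.ReeTori.Basic
import Cfsg.Agent.Lib.CoprimeGen

/-!
The unipotent subgroup and the two tori inside the involution centralisers of a small Ree group.
-/

set_option autoImplicit false
set_option linter.unusedSectionVars false
set_option linter.style.haveILetI false
set_option linter.deprecated false
set_option linter.unusedVariables false

namespace CfsgLib.ReeTori

open CfsgLib.DicksonFull
open CfsgLib.PSL2 (mk)

section generic

variable {G : Type*} [Group G] [Finite G]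

/-- The subgroup of a cyclic subgroup of a given order. -/
theorem mem_of_pow_eq_one {A B : Subgroup G} [IsCyclic A] (hBA : B ≤ A) {x : G} (hx : x ∈ A)
    (hp : x ^ Nat.card B = 1) : x ∈ B := by
  haveI := Fintype.ofFinite A
  letI := IsCyclic.commGroup (α := A)
  let B' := B.subgroupOf A
  have hB' : Nat.card B' = Nat.card B := Nat.card_congr (Subgroup.subgroupOfEquivOfLe hBA).toEquiv
  have hle : B' ≤ (powMonoidHom (Nat.card B) : A →* A).ker := fun y hy => by
    rw [MonoidHom.mem_ker, powMonoidHom_apply, ← hB']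
    exact congrArg Subtype.val (pow_card_eq_one' (x := (⟨y, hy⟩ : B')))
  have heq := Subgroup.eq_of_le_of_card_ge hle (by
    rw [IsCyclic.card_powMonoidHom_ker, hB']
    exact Nat.le_of_dvd Nat.card_pos (Nat.gcd_dvd_right _ _))
  have hmem : (⟨x, hx⟩ : A) ∈ B' := by rw [heq]; exact Subtype.ext hp
  exact hmem

/-- Normalising a cyclic subgroup means normalising each of its subgroups. -/
theorem norm_le_norm_sub {A A₀ : Subgroup G} [IsCyclic A] (h : A₀ ≤ A) :
    Subgroup.normalizer (A : Set G) ≤ Subgroup.normalizer (A₀ : Set G) := by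
  have key : ∀ g ∈ Subgroup.normalizer (A : Set G), ∀ x ∈ A₀, g * x * g⁻¹ ∈ A₀ := by
    intro g hg x hx
    refine mem_of_pow_eq_one h ((Subgroup.mem_normalizer_iff.mp hg x).mp (h hx)) ?_
    have h1 : x ^ Nat.card A₀ = 1 := congrArg Subtype.val (pow_card_eq_one' (x := (⟨x, hx⟩ : A₀)))
    rw [conj_pow, h1, mul_one, mul_inv_cancel]
  intro g hg
  rw [Subgroup.mem_normalizer_iff]
  refine fun x => ⟨key g hg x, fun hx => ?_⟩
  have h1 := key g⁻¹ (inv_mem hg) _ hx
  rwa [show g⁻¹ * (g * x * g⁻¹) * g⁻¹⁻¹ = x by group] at h1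

/-- A cyclic subgroup meeting no other conjugate has one normaliser for all its subgroups. -/
theorem norm_eq_of_ti {A A₀ : Subgroup G} [IsCyclic A]
    (hTI : ∀ g x : G, x ∈ A → x ≠ 1 → g * x * g⁻¹ ∈ A → g ∈ Subgroup.normalizer (A : Set G))
    (h : A₀ ≤ A) (hne : A₀ ≠ ⊥) : Subgroup.normalizer (A₀ : Set G) = Subgroup.normalizer (A : Set G) := by
  refine le_antisymm (fun g hg => ?_) (norm_le_norm_sub h)
  obtain ⟨x, hx, hx1⟩ : ∃ x ∈ A₀, x ≠ 1 := by
    by_contra hc
    push Not at hc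
    exact hne ((Subgroup.eq_bot_iff_forall _).mpr hc)
  exact hTI g x (h hx) hx1 (h ((Subgroup.mem_normalizer_iff.mp hg x).mp hx))

/-- A power of prime order. -/
theorem exists_pow_prime {x : G} {r : ℕ} (hr : r ∣ orderOf x) : orderOf (x ^ (orderOf x / r)) = r :=
  orderOf_pow_orderOf_div (orderOf_pos x).ne' hr

end generic

variable {G : Type*} [Group G] [Finite G] {F : Type*} [Field F] [Fintype F] {m : ℕ} [Fact (Nat.Prime 3)]
  [CharP F 3] (R : Ree G F m)

local notation "PSL" => Matrix.ProjectiveSpecialLinearGroup (Fin 2) F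
local notation "q" => Fintype.card F

include R

/-- Arithmetic of the orders of the tori. -/
theorem arith : ∃ k : ℕ, q = 8 * k + 3 ∧ 3 ≤ k ∧ (q - 1) / 2 = 4 * k + 1 ∧ (q + 1) / 4 = 2 * k + 1 ∧ 3 ∣ q := by
  obtain ⟨h8, h27⟩ := R.data.mod
  exact ⟨q / 8, by omega, by omega, by omega, by omega, by rw [R.data.hq]; exact dvd_pow_self 3 (by omega)⟩

theorem three_not_dvd : ¬ 3 ∣ (q - 1) * (q ^ 3 + 1) := by
  obtain ⟨k, hk, hk3, -, -, h3⟩ := arith R
  rw [Nat.prime_three.dvd_mul]
  rintro (h | h)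
  · omega
  · have : 3 ∣ q ^ 3 := dvd_pow h3 (by norm_num)
    omega

theorem card_U_multiplicity : Nat.card R.U = 3 ^ (Nat.card G).factorization 3 := by
  obtain ⟨k, hk, -⟩ := arith R
  have hne : (q - 1) * (q ^ 3 + 1) ≠ 0 := Nat.mul_ne_zero (by omega) (by omega)
  rw [R.card_U, R.card_G, mul_assoc, Nat.factorization_mul (pow_ne_zero _ (by omega)) hne, Finsupp.add_apply,
    Nat.factorization_eq_zero_of_not_dvd (three_not_dvd R), add_zero, R.data.hq, ← pow_mul,
    Nat.prime_three.factorization_pow, Finsupp.single_eq_same]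

/-- Elements of order a power of three lie in conjugates of `U`. -/
theorem three_conj {y : G} {i : ℕ} (hy : orderOf y = 3 ^ i) : ∃ g : G, g * y * g⁻¹ ∈ R.U := by
  let P : Sylow 3 G := Sylow.ofCard R.U (card_U_multiplicity R)
  obtain ⟨Q, hQ⟩ := (IsPGroup.of_card (n := i) (by rw [Nat.card_zpowers, hy]) :
    IsPGroup 3 (Subgroup.zpowers y)).exists_le_sylow
  obtain ⟨g, hg⟩ := MulAction.exists_smul_eq G Q P
  refine ⟨g, ?_⟩
  have h : g * y * g⁻¹ ∈ (P : Subgroup G) := by
    rw [← hg, Sylow.coe_subgroup_smul]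
    exact Subgroup.smul_mem_pointwise_smul y (MulAut.conj g) _ (hQ (Subgroup.mem_zpowers y))
  rwa [Sylow.coe_ofCard] at h

/-- The centraliser of an element of order three. -/
theorem three_cent {y x : G} (hy : orderOf y = 3) (h : Commute y x) : orderOf x ∣ q ^ 3 * (q - 1) := by
  obtain ⟨g, hg⟩ := three_conj R (i := 1) (by rw [hy, pow_one])
  have hy1 : y ≠ 1 := fun e => by rw [e, orderOf_one] at hy; omega
  have hc := (commute_conj_iff (g := g)).mpr h
  have hmem : g * x * g⁻¹ ∈ Subgroup.normalizer (R.U : Set G) := by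
    refine R.U_ti _ _ hg (conj_ne_one hy1) ?_
    rw [hc.symm.eq, mul_inv_cancel_right]
    exact hg
  rw [← R.card_NU, ← orderOf_conj' g x]
  exact Subgroup.orderOf_dvd_natCard _ hmem

theorem H_comm {x y : G} (hx : x ∈ R.H) (hy : y ∈ R.H) : Commute x y := by
  haveI := R.H_cyclic
  exact congrArg Subtype.val ((IsCyclic.commGroup (α := R.H)).mul_comm ⟨x, hx⟩ ⟨y, hy⟩)

/-- The centraliser of an element of `H` of order at least three. -/
theorem H_cent {x y : G} (hx : x ∈ R.H) (hx2 : x * x ≠ 1) (h : Commute y x) : y ∈ R.H := by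
  have hy : y ∈ R.N := R.split x hx hx2 y (by rw [h.eq, mul_inv_cancel_right]; exact hx)
  by_contra hyH
  have h1 := R.N_inv y hy hyH x hx
  rw [h.eq, mul_inv_cancel_right] at h1
  exact hx2 (by nth_rw 2 [h1]; exact mul_inv_cancel x)

theorem N_norm : R.N ≤ Subgroup.normalizer (R.H : Set G) := by
  have key : ∀ y ∈ R.N, ∀ h ∈ R.H, y * h * y⁻¹ ∈ R.H := by
    intro y hy h hh
    by_cases hyH : y ∈ R.H
    · exact mul_mem (mul_mem hyH hh) (inv_mem hyH)
    · rw [R.N_inv y hy hyH h hh]; exact inv_mem hh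
  intro y hy
  rw [Subgroup.mem_normalizer_iff]
  refine fun h => ⟨key y hy h, fun hh => ?_⟩
  have h1 := key y⁻¹ (inv_mem hy) _ hh
  rwa [show y⁻¹ * (y * h * y⁻¹) * y⁻¹⁻¹ = h by group] at h1

theorem sq_ne_of_order {x : G} (h1 : x ≠ 1) (h : Odd (orderOf x)) : x * x ≠ 1 := fun e => by
  rw [orderOf_invol h1 e] at h
  exact absurd h (by decide)

/-- A prime dividing `q - 1` other than two. -/
theorem prime_split {r : ℕ} [Fact r.Prime] (hr2 : r ≠ 2) (hr : r ∣ q - 1) : 3 < r := by
  have := (Fact.out : r.Prime).two_le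
  obtain ⟨k, hk, -, -, -, h3⟩ := arith R
  by_contra hc
  obtain rfl : r = 3 := by omega
  omega

/-- Elements of prime order dividing `q - 1` lie in conjugates of `H`. -/
theorem split_prime_conj {r : ℕ} [Fact r.Prime] (hr2 : r ≠ 2) (hr : r ∣ q - 1) {z : G} (hz : orderOf z = r) :
    ∃ g : G, g * z * g⁻¹ ∈ R.H ∧ (g * z * g⁻¹) * (g * z * g⁻¹) ≠ 1 := by
  obtain ⟨⟨w, hw⟩, hwo⟩ := exists_prime_orderOf_dvd_card' (G := R.H) r (by rw [R.card_H]; exact hr)
  obtain ⟨g, hg⟩ := conj_of_cyclic_sylow (R.cyclic (prime_split R hr2 hr)) hz (y := w)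
    (by rwa [Subgroup.orderOf_mk] at hwo)
  refine ⟨g, (Subgroup.zpowers_le.mpr hw) hg, sq_ne_of_order R (conj_ne_one fun e => ?_) ?_⟩
  · rw [e, orderOf_one] at hz
    exact (Fact.out : r.Prime).ne_one hz.symm
  · rw [orderOf_conj', hz]
    exact (Fact.out : r.Prime).odd_of_ne_two hr2

theorem split_prime_cent {r : ℕ} [Fact r.Prime] (hr2 : r ≠ 2) (hr : r ∣ q - 1) {z y : G} (hz : orderOf z = r)
    (h : Commute y z) : orderOf y ∣ q - 1 := by
  obtain ⟨g, hg, hg2⟩ := split_prime_conj R hr2 hr hz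
  have := H_cent R hg hg2 ((commute_conj_iff (g := g)).mpr h)
  rw [← R.card_H, ← orderOf_conj' g y]
  exact Subgroup.orderOf_dvd_natCard _ this

/-- The torus of order `(q - 1) / 2`. -/
theorem split_data : ∃ A : Subgroup G, IsCyclic A ∧ Nat.card A = (q - 1) / 2 ∧
    Nat.card (Subgroup.normalizer (A : Set G)) = 2 * (q - 1) ∧
    (∀ g x : G, x ∈ A → x ≠ 1 → g * x * g⁻¹ ∈ A → g ∈ Subgroup.normalizer (A : Set G)) ∧
    (∀ z : G, z ≠ 1 → orderOf z ∣ (q - 1) / 2 → ∃ g : G, g * z * g⁻¹ ∈ A) := by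
  haveI := R.H_cyclic
  obtain ⟨k, hk, hk3, ha1, -, -⟩ := arith R
  obtain ⟨⟨h, hh⟩, hho⟩ := IsCyclic.exists_ofOrder_eq_natCard (α := R.H)
  rw [R.card_H, Subgroup.orderOf_mk] at hho
  let A := Subgroup.zpowers (h ^ 2)
  have hA : Nat.card A = (q - 1) / 2 := by
    rw [Nat.card_zpowers, orderOf_pow, hho, Nat.gcd_eq_right (by omega)]
  have hAH : A ≤ R.H := Subgroup.zpowers_le.mpr (pow_mem hh 2)
  have hodd : ∀ x ∈ A, Odd (orderOf x) := fun x hx =>
    Odd.of_dvd_nat (show Odd ((q - 1) / 2) by rw [ha1]; exact ⟨2 * k, by omega⟩)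
      (hA ▸ Subgroup.orderOf_dvd_natCard _ hx)
  have hN : R.N ≤ Subgroup.normalizer (A : Set G) := (N_norm R).trans (norm_le_norm_sub hAH)
  have hNA : Subgroup.normalizer (A : Set G) = R.N := by
    refine le_antisymm (fun g hg => ?_) hN
    have h2 : h ^ 2 ≠ 1 := fun e => by
      have hA' := hA
      rw [Nat.card_zpowers, e, orderOf_one] at hA'
      omega
    refine R.split _ (hAH (Subgroup.mem_zpowers _)) (sq_ne_of_order R h2 (hodd _ (Subgroup.mem_zpowers _))) g ?_
    exact hAH ((Subgroup.mem_normalizer_iff.mp hg _).mp (Subgroup.mem_zpowers _))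
  refine ⟨A, inferInstance, hA, by rw [hNA, R.card_N], fun g x hx hx1 hgx => ?_, fun z hz hzo => ?_⟩
  · rw [hNA]
    exact R.split x (hAH hx) (sq_ne_of_order R hx1 (hodd x hx)) g (hAH hgx)
  · obtain ⟨r, hr, hrz⟩ := Nat.exists_prime_and_dvd (n := orderOf z) (fun e => hz (orderOf_eq_one_iff.mp e))
    haveI := Fact.mk hr
    have hr2 : r ≠ 2 := fun e => by
      have := hrz.trans hzo
      rw [e, ha1] at this
      omega
    have hr1 : r ∣ q - 1 := (hrz.trans hzo).trans (Nat.div_dvd_of_dvd (by omega))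
    obtain ⟨g, hg, hg2⟩ := split_prime_conj R hr2 hr1 (exists_pow_prime hrz)
    refine ⟨g, mem_of_pow_eq_one hAH (H_cent R hg hg2 ((commute_conj_iff (g := g)).mpr ((Commute.refl z).pow_right _))) ?_⟩
    rw [hA, conj_pow, orderOf_dvd_iff_pow_eq_one.mp hzo, mul_one, mul_inv_cancel]

/-- Elements of odd order in a lifted subgroup. -/
theorem odd_mem_lift {W : Subgroup PSL} {y : G} (hy : y ∈ R.lift W) (ho : Odd (orderOf y)) :
    ∃ w ∈ W, y = R.ι w ∧ orderOf w = orderOf y := by
  obtain ⟨w, hw, h | h⟩ := hy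
  · exact ⟨w, hw, h, by rw [h, orderOf_injective R.ι R.ι_inj]⟩
  · exfalso
    subst h
    obtain ⟨j, hj⟩ := ho
    have h1 := pow_orderOf_eq_one (R.a * R.ι w)
    rw [(R.a_comm w).mul_pow, ← map_pow] at h1
    have h2 : R.a ^ orderOf (R.a * R.ι w) = R.a := by
      rw [hj, pow_succ, pow_mul, pow_two, R.a_sq, one_pow, one_mul]
    rw [h2, mul_eq_one_iff_eq_inv] at h1
    refine R.a_notin ((w ^ orderOf (R.a * R.ι w))⁻¹) ?_
    rw [map_inv]
    exact h1.symm

theorem commute_ι_iff {v w : PSL} : Commute (R.ι v) (R.ι w) ↔ Commute v w :=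
  commute_map_iff (f := R.ι) R.ι_inj

theorem commute_aι_iff {v w : PSL} : Commute (R.a * R.ι v) (R.ι w) ↔ Commute v w := by
  refine Iff.trans ⟨fun h => ?_, fun h => (R.a_comm w).mul_left h⟩ (commute_ι_iff R)
  have h1 := ((R.a_comm w).inv_left).mul_left h
  rwa [inv_mul_cancel_left] at h1

/-- A four-group containing `a` cycled by an element of `G`. -/
theorem exists_line {b : PSL} (hb1 : b ≠ 1) (hb : b * b = 1) :
    ∃ y : G, y * R.a * y⁻¹ = R.ι b ∧ y * R.ι b * y⁻¹ = R.a * R.ι b := by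
  obtain ⟨g, u, w, -, -, hu, hu1, hw, hw1, huw, hcm, hgu, hgw⟩ := exists_cycle R.data
  obtain ⟨h, hh⟩ := invol_conj_a R ((map_ne_one_iff R.ι R.ι_inj).mpr hu1) (by rw [← map_mul, hu, map_one] : R.ι u * R.ι u = 1)
  obtain ⟨z, hz⟩ := R.cent (h * R.ι w * h⁻¹) (by
    rw [← hh]
    exact (commute_conj_iff (g := h)).mpr ((commute_ι_iff R).mpr hcm.symm))
  have hz1 : z ≠ 1 := by
    intro e
    rcases hz with hz | hz <;> rw [e, map_one] at hz
    · exact conj_ne_one ((map_ne_one_iff R.ι R.ι_inj).mpr hw1) hz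
    · rw [mul_one, ← hh, mul_left_inj, mul_right_inj] at hz
      exact huw (R.ι_inj hz).symm
  have hz2 : z * z = 1 := by
    refine invol_PSL_of R ?_
    have h2 : h * R.ι w * h⁻¹ * (h * R.ι w * h⁻¹) = 1 := invol_conj_of (by rw [← map_mul, hw, map_one])
    rcases hz with hz | hz <;> rw [hz] at h2
    · exact h2
    · rwa [show R.a * R.ι z * (R.a * R.ι z) = R.a * (R.ι z * R.a) * R.ι z by group, ← (R.a_comm z).eq,
        ← mul_assoc, R.a_sq, one_mul] at h2
  obtain ⟨k, hk⟩ := invol_conj R.data hz1 hz2 hb1 hb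
  obtain ⟨c, hc⟩ : ∃ c, c = R.ι k * h := ⟨_, rfl⟩
  obtain ⟨s, hs⟩ : ∃ s, s = c * R.ι g * c⁻¹ := ⟨_, rfl⟩
  have hca : c * R.ι u * c⁻¹ = R.a := by
    rw [hc, show R.ι k * h * R.ι u * (R.ι k * h)⁻¹ = R.ι k * (h * R.ι u * h⁻¹) * (R.ι k)⁻¹ by group, hh,
      ← (R.a_comm k).eq, mul_inv_cancel_right]
  have hcw : c * R.ι w * c⁻¹ = R.ι b ∨ c * R.ι w * c⁻¹ = R.a * R.ι b := by
    rw [hc, show R.ι k * h * R.ι w * (R.ι k * h)⁻¹ = R.ι k * (h * R.ι w * h⁻¹) * (R.ι k)⁻¹ by group]
    rcases hz with hz | hz <;> rw [hz]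
    · left; rw [← map_inv, ← map_mul, ← map_mul, hk]
    · right
      rw [← mul_assoc (R.ι k), ← (R.a_comm k).eq, mul_assoc R.a, mul_assoc R.a, ← map_inv, ← map_mul, ← map_mul, hk]
  have h1 : s * R.a * s⁻¹ = c * R.ι w * c⁻¹ := by
    rw [hs, ← hca, show c * R.ι g * c⁻¹ * (c * R.ι u * c⁻¹) * (c * R.ι g * c⁻¹)⁻¹ =
      c * (R.ι g * R.ι u * (R.ι g)⁻¹) * c⁻¹ by group, ← map_inv, ← map_mul, ← map_mul, hgu]
  have h2 : s * (c * R.ι w * c⁻¹) * s⁻¹ = R.a * (c * R.ι w * c⁻¹) := by
    rw [hs, ← hca, show c * R.ι g * c⁻¹ * (c * R.ι w * c⁻¹) * (c * R.ι g * c⁻¹)⁻¹ =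
      c * (R.ι g * R.ι w * (R.ι g)⁻¹) * c⁻¹ by group, ← map_inv, ← map_mul, ← map_mul, hgw, map_mul]
    group
  rcases hcw with e | e <;> rw [e] at h1 h2
  · exact ⟨s, h1, h2⟩
  · rw [← mul_assoc R.a R.a, R.a_sq, one_mul] at h2
    have h3 : s * R.ι b * s⁻¹ = R.a := by
      have e' : R.ι b = R.a * (R.a * R.ι b) := by rw [← mul_assoc, R.a_sq, one_mul]
      conv_lhs => rw [e']
      rw [show s * (R.a * (R.a * R.ι b)) * s⁻¹ = (s * R.a * s⁻¹) * (s * (R.a * R.ι b) * s⁻¹) by group, h1, h2,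
        mul_assoc, ← map_mul, hb, map_one, mul_one]
    refine ⟨s⁻¹, ?_, ?_⟩
    · calc s⁻¹ * R.a * s⁻¹⁻¹ = s⁻¹ * (s * R.ι b * s⁻¹) * s⁻¹⁻¹ := by rw [h3]
        _ = R.ι b := by group
    · calc s⁻¹ * R.ι b * s⁻¹⁻¹ = s⁻¹ * (s * (R.a * R.ι b) * s⁻¹) * s⁻¹⁻¹ := by rw [h2]
        _ = R.a * R.ι b := by group

/-- The four-group of `a` and an involution of `PSL₂`. -/
theorem mem_line {b : PSL} (hb : b * b = 1) (hb1 : b ≠ 1) {y : G} :
    y ∈ R.lift (Subgroup.zpowers b) ↔ y = 1 ∨ y = R.a ∨ y = R.ι b ∨ y = R.a * R.ι b := by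
  classical
  haveI : Finite PSL := inferInstance
  have hmem : ∀ z, z ∈ Subgroup.zpowers b ↔ z = 1 ∨ z = b := by
    intro z
    rw [mem_zpowers_iff_mem_range_orderOf, orderOf_invol hb1 hb]
    simp [Finset.range_add_one, eq_comm, or_comm]
  constructor
  · rintro ⟨w, hw, h⟩
    rcases (hmem w).mp hw with e | e <;> rcases h with h | h <;> rw [h, e] <;> simp
  · intro h
    rcases h with rfl | rfl | rfl | rfl
    · exact one_mem _
    · exact a_mem_lift R _
    · exact (ι_mem_lift R).mpr (Subgroup.mem_zpowers b)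
    · exact (aι_mem_lift R).mpr (Subgroup.mem_zpowers b)

/-- Moving a point of the line moves `a`. -/
theorem line_fix {b : PSL} (hb : b * b = 1) (hb1 : b ≠ 1) {y : G}
    (hy : y ∈ Subgroup.normalizer (R.lift (Subgroup.zpowers b) : Set G)) (hya : Commute y R.a) :
    y ∈ R.lift (Subgroup.centralizer {b}) := by
  classical
  obtain ⟨z, hz⟩ := R.cent y hya
  refine ⟨z, ?_, hz⟩
  have h1 := (Subgroup.mem_normalizer_iff.mp hy (R.ι b)).mp ((ι_mem_lift R).mpr (Subgroup.mem_zpowers b))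
  have h2 : y * R.ι b * y⁻¹ = R.ι (z * b * z⁻¹) := by
    rcases hz with rfl | rfl
    · rw [map_mul, map_mul, map_inv]
    · rw [show R.a * R.ι z * R.ι b * (R.a * R.ι z)⁻¹ = R.a * (R.ι z * R.ι b * (R.ι z)⁻¹) * R.a⁻¹ by group,
        ← map_inv, ← map_mul, ← map_mul, (R.a_comm _).eq, mul_inv_cancel_right]
  rw [h2, ι_mem_lift, mem_zpowers_iff_mem_range_orderOf, orderOf_invol hb1 hb] at h1
  simp only [Finset.range_add_one, Finset.range_zero, Finset.image_insert, Finset.image_empty, pow_zero, pow_one,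
    Finset.mem_insert, Finset.notMem_empty, or_false] at h1
  rw [Subgroup.mem_centralizer_singleton_iff]
  rcases h1 with e | e
  · exact mul_inv_eq_iff_eq_mul.mp e
  · exact absurd e (conj_ne_one hb1)

/-- The centraliser of a semisimple element of the nonsplit torus. -/
theorem cent_minus {x : PSL} (hx1 : x ≠ 1) (hx : orderOf x ∣ (q + 1) / 4) :
    Subgroup.centralizer {R.ι x} = R.lift ((psl (F := F) 3).T x) := by
  classical
  obtain ⟨k, hk, hk3, ha1, ha2, h3⟩ := arith R
  obtain ⟨hs, hT, hC⟩ := minus_torus R.data hx1 hx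
  obtain ⟨W, hW⟩ : ∃ W, W = (psl (F := F) 3).T x := ⟨_, rfl⟩
  rw [← hW] at hT hC ⊢
  haveI : IsCyclic W := hW ▸ (psl (F := F) 3).T_cyclic x hs
  have hWc : ∀ {v w : PSL}, v ∈ W → w ∈ W → Commute v w := fun hv hw =>
    congrArg Subtype.val ((IsCyclic.commGroup (α := W)).mul_comm ⟨_, hv⟩ ⟨_, hw⟩)
  haveI := Fact.mk Nat.prime_two
  obtain ⟨⟨b, hbW⟩, hbo⟩ := exists_prime_orderOf_dvd_card' (G := W) 2 (by omega)
  rw [Subgroup.orderOf_mk] at hbo
  have hb1 : b ≠ 1 := fun e => by rw [e, orderOf_one] at hbo; omega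
  have hb : b * b = 1 := by rw [← pow_two]; exact orderOf_dvd_iff_pow_eq_one.mp (dvd_of_eq hbo)
  obtain ⟨X, hX⟩ : ∃ X, X = Subgroup.centralizer {R.ι x} := ⟨_, rfl⟩
  rw [← hX]
  have hxX : ∀ {y : G}, y ∈ X ↔ Commute y (R.ι x) := fun {y} => by
    rw [hX]; exact Subgroup.mem_centralizer_singleton_iff
  have hWX : R.lift W ≤ X := by
    rintro y ⟨w, hw, h⟩
    have hwx : Commute w x := hWc hw (hW ▸ (psl (F := F) 3).mem_T x hs)
    rw [hxX]
    rcases h with rfl | rfl
    · exact (commute_ι_iff R).mpr hwx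
    · exact (commute_aι_iff R).mpr hwx
  have hXa : ∀ y ∈ X, Commute y R.a → y ∈ R.lift W := by
    intro y hy hya
    obtain ⟨z, hz⟩ := R.cent y hya
    refine ⟨z, ?_, hz⟩
    rw [← hC, Subgroup.mem_centralizer_singleton_iff]
    rw [hxX] at hy
    rcases hz with rfl | rfl
    · exact ((commute_ι_iff R).mp hy).eq
    · exact ((commute_aι_iff R).mp hy).eq
  have hxo : Odd (orderOf x) := Odd.of_dvd_nat (by rw [ha2]; exact ⟨k, by omega⟩) hx
  have hWcard : Nat.card (R.lift W) = q + 1 := by rw [card_lift', hT]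
  -- every involution of the four-group has the same centraliser in `X`
  have hXe : ∀ e ∈ R.lift W, e ≠ 1 → e * e = 1 → ∀ y ∈ X, Commute y e → y ∈ R.lift W := by
    intro e he he1 hee y hy hye
    obtain ⟨g, hg⟩ := invol_conj_a R he1 hee
    obtain ⟨v, hv, hv'⟩ : ∃ v : PSL, v ∈ (⊤ : Subgroup PSL) ∧ g * R.ι x * g⁻¹ = R.ι v := by
      have h1 : g * R.ι x * g⁻¹ ∈ R.lift ⊤ := by
        rw [← centralizer_a R, Subgroup.mem_centralizer_singleton_iff, ← hg]
        exact ((commute_conj_iff (g := g)).mpr (hxX.mp (hWX he)).symm).eq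
      obtain ⟨v, hv, e', -⟩ := odd_mem_lift R h1 (by rw [orderOf_conj', orderOf_injective R.ι R.ι_inj]; exact hxo)
      exact ⟨v, hv, e'⟩
    have hvo : orderOf v = orderOf x := by
      rw [← orderOf_injective R.ι R.ι_inj v, ← hv', orderOf_conj', orderOf_injective R.ι R.ι_inj]
    have hv1 : v ≠ 1 := fun e' => by
      rw [e', orderOf_one] at hvo
      exact hx1 (orderOf_eq_one_iff.mp hvo.symm)
    obtain ⟨hsv, hTv, hCv⟩ := minus_torus R.data hv1 (hvo ▸ hx)
    let f : G →* G := (MulAut.conj g).toMonoidHom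
    have hf : Function.Injective f := (MulAut.conj g).injective
    have hmap : ∀ z : G, Commute z (R.ι x) → Commute z e → f z ∈ R.lift ((psl (F := F) 3).T v) := by
      intro z hz hze
      obtain ⟨w, hw⟩ := R.cent (f z) (by rw [← hg]; exact (commute_conj_iff (g := g)).mpr hze)
      refine ⟨w, ?_, hw⟩
      have h2 : Commute (f z) (R.ι v) := by rw [← hv']; exact (commute_conj_iff (g := g)).mpr hz
      rw [← hCv, Subgroup.mem_centralizer_singleton_iff]
      rcases hw with hw | hw <;> rw [hw] at h2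
      · exact ((commute_ι_iff R).mp h2).eq
      · exact ((commute_aι_iff R).mp h2).eq
    have hle : (R.lift W).map f ≤ R.lift ((psl (F := F) 3).T v) := by
      rintro _ ⟨z, hz, rfl⟩
      refine hmap z (hxX.mp (hWX hz)) ?_
      obtain ⟨w, hw, hz'⟩ := hz
      obtain ⟨w', hw', he'⟩ := he
      have hc : Commute (R.ι w) (R.ι w') := (commute_ι_iff R).mpr (hWc hw hw')
      rcases hz' with rfl | rfl <;> rcases he' with rfl | rfl
      · exact hc
      · exact (R.a_comm w).symm.mul_right hc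
      · exact (R.a_comm w').mul_left hc
      · exact ((Commute.refl R.a).mul_right (R.a_comm w')).mul_left ((R.a_comm w).symm.mul_right hc)
    have heq := Subgroup.eq_of_le_of_card_ge hle (by
      rw [Subgroup.card_map_of_injective hf, hWcard, card_lift', hTv])
    have h3 := hmap y (hxX.mp hy) hye
    rw [← heq, Subgroup.mem_map_iff_mem hf] at h3
    exact h3
  -- a Sylow 2-subgroup of `X`
  obtain ⟨L, hL⟩ : ∃ L, L = R.lift (Subgroup.zpowers b) := ⟨_, rfl⟩
  have hLW : L ≤ R.lift W := by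
    rw [hL]
    rintro y ⟨w, hw, h⟩
    exact ⟨w, (Subgroup.zpowers_le.mpr hbW) hw, h⟩
  have hLX : L ≤ X := hLW.trans hWX
  have hLc : Nat.card L = 4 := by rw [hL, card_lift', Nat.card_zpowers, hbo]
  have hLexp : ∀ e ∈ L, e * e = 1 := by
    intro e he
    rw [hL, mem_line R hb hb1] at he
    rcases he with rfl | rfl | rfl | rfl
    · exact one_mul 1
    · exact R.a_sq
    · rw [← map_mul, hb, map_one]
    · rw [show R.a * R.ι b * (R.a * R.ι b) = R.a * (R.ι b * R.a) * R.ι b by group, ← (R.a_comm b).eq,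
        ← mul_assoc R.a R.a, R.a_sq, one_mul, ← map_mul, hb, map_one]
  have hno3 : ¬ 3 ∣ Nat.card X := by
    intro h
    obtain ⟨⟨y, hy⟩, hyo⟩ := exists_prime_orderOf_dvd_card' (G := X) 3 h
    rw [Subgroup.orderOf_mk] at hyo
    have h1 := three_cent R hyo (hxX.mp hy)
    rw [orderOf_injective R.ι R.ι_inj] at h1
    have h2 : orderOf x ∣ Nat.gcd ((q + 1) / 4) (q ^ 3 * (q - 1)) := Nat.dvd_gcd hx h1
    have h4 : Nat.Coprime ((q + 1) / 4) (q ^ 3 * (q - 1)) := by
      refine Nat.Coprime.mul_right (Nat.Coprime.pow_right _ ?_) ?_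
      · refine Nat.coprime_of_dvd fun r hr h1 h2 => ?_
        have h5 : r ∣ 3 ^ (2 * m + 1) := by rw [← R.data.hq]; exact h2
        obtain rfl := (Nat.prime_dvd_prime_iff_eq hr Nat.prime_three).mp (hr.dvd_of_dvd_pow h5)
        omega
      · refine Nat.coprime_of_dvd fun r hr h1 h2 => ?_
        rw [ha2] at h1
        have h5 : r ∣ 2 := by
          have := Nat.dvd_sub (Dvd.dvd.mul_left h1 4) h2
          rwa [show 4 * (2 * k + 1) - (q - 1) = 2 by omega] at this
        obtain rfl := (Nat.prime_dvd_prime_iff_eq hr Nat.prime_two).mp h5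
        omega
    rw [h4.gcd_eq_one] at h2
    exact hx1 (orderOf_eq_one_iff.mp (Nat.dvd_one.mp h2))
  obtain ⟨P, hP⟩ := (IsPGroup.of_card (n := 2) (by
    rw [Nat.card_congr (Subgroup.subgroupOfEquivOfLe hLX).toEquiv, hLc]; norm_num) :
      IsPGroup 2 (L.subgroupOf X)).exists_le_sylow
  have hPL : (P : Subgroup X) = L.subgroupOf X := by
    refine (Subgroup.eq_of_le_of_card_ge hP ?_).symm
    obtain ⟨S, hS⟩ := (P.2.map X.subtype).exists_le_sylow
    haveI := syl_comm R S
    have haS : R.a ∈ (S : Subgroup G) := hS ⟨⟨R.a, hLX (hL ▸ a_mem_lift R _)⟩,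
      hP (show R.a ∈ L from hL ▸ a_mem_lift R _), rfl⟩
    have hsub : (P : Subgroup X).map X.subtype ≤ R.lift W := by
      rintro _ ⟨y, hy, rfl⟩
      exact hXa y y.2 (Subgroup.mul_comm_of_mem_isMulCommutative (S : Subgroup G) (hS ⟨y, hy, rfl⟩) haS)
    have hd := Subgroup.card_dvd_of_le hsub
    rw [Subgroup.card_map_of_injective X.subtype_injective, hWcard] at hd
    obtain ⟨i, hi⟩ := IsPGroup.iff_card.mp P.2
    rw [Nat.card_congr (Subgroup.subgroupOfEquivOfLe hLX).toEquiv, hLc]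
    show Nat.card (P : Subgroup X) ≤ 4
    rw [hi] at hd ⊢
    by_contra hc
    have : 2 ^ 3 ∣ q + 1 := (Nat.pow_dvd_pow 2 (by
      by_contra h
      have := Nat.pow_le_pow_right (show 2 > 0 by norm_num) (show i ≤ 2 by omega)
      omega)).trans hd
    omega
  -- Burnside's transfer
  have hle' : Subgroup.normalizer ((P : Subgroup X) : Set X) ≤ Subgroup.centralizer ((P : Subgroup X) : Set X) := by
    intro y hy
    have hyN : (y : G) ∈ Subgroup.normalizer (L : Set G) := by
      rw [Subgroup.mem_normalizer_iff]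
      intro z
      by_cases hz : z ∈ X
      · have := Subgroup.mem_normalizer_iff.mp hy ⟨z, hz⟩
        rw [hPL] at this
        exact this
      · refine ⟨fun h => absurd (hLX h) hz, fun h => absurd ?_ hz⟩
        have h1 := mul_mem (mul_mem (inv_mem y.2) (hLX h)) y.2
        rwa [show (y : G)⁻¹ * ((y : G) * z * (y : G)⁻¹) * (y : G) = z by group] at h1
    obtain ⟨n, hn1, hn2⟩ := exists_line R hb1 hb
    have hfix : ∀ u : G, u ∈ Subgroup.normalizer (L : Set G) → Commute u R.a → u ∈ Subgroup.centralizer (L : Set G) := by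
      intro u hu hua
      obtain ⟨z, hz, hz'⟩ := line_fix R hb hb1 (hL ▸ hu) hua
      rw [Subgroup.mem_centralizer_singleton_iff] at hz
      have h1 : Commute u (R.ι b) := by
        rcases hz' with rfl | rfl
        · exact (commute_ι_iff R).mpr hz
        · exact (commute_aι_iff R).mpr hz
      rw [Subgroup.mem_centralizer_iff]
      intro v hv
      rw [SetLike.mem_coe, hL, mem_line R hb hb1] at hv
      rcases hv with rfl | rfl | rfl | rfl
      · simp
      · exact hua.eq.symm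
      · exact h1.eq.symm
      · exact (hua.mul_right h1).eq.symm
    have hnN : n ∈ Subgroup.normalizer (L : Set G) := by
      have h3 : ∀ v ∈ L, n * v * n⁻¹ ∈ L := by
        intro v hv
        rw [hL, mem_line R hb hb1] at hv ⊢
        rcases hv with rfl | rfl | rfl | rfl
        · left; group
        · right; right; left; exact hn1
        · right; right; right; exact hn2
        · right; left
          rw [show n * (R.a * R.ι b) * n⁻¹ = (n * R.a * n⁻¹) * (n * R.ι b * n⁻¹) by group, hn1, hn2, ← mul_assoc,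
            ← (R.a_comm b).eq, mul_assoc, ← map_mul, hb, map_one, mul_one]
      rw [Subgroup.mem_normalizer_iff]
      have h4 : L.map (MulAut.conj n).toMonoidHom = L := Subgroup.eq_of_le_of_card_ge
        (by rintro _ ⟨v, hv, rfl⟩; exact h3 v hv) (by rw [Subgroup.card_map_of_injective (f := (MulAut.conj n).toMonoidHom) (MulAut.conj n).injective])
      intro v
      refine ⟨h3 v, fun hv => ?_⟩
      rw [← h4] at hv
      exact (Subgroup.mem_map_iff_mem (f := (MulAut.conj n).toMonoidHom) (MulAut.conj n).injective).mp hv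
    -- three points
    have h3 : ∀ u ∈ Subgroup.normalizer (L : Set G), u ∈ Subgroup.centralizer (L : Set G) ∨
        n⁻¹ * u ∈ Subgroup.centralizer (L : Set G) ∨ (n * n)⁻¹ * u ∈ Subgroup.centralizer (L : Set G) := by
      intro u hu
      have haL : R.a ∈ L := hL ▸ a_mem_lift R _
      have h5 := (Subgroup.mem_normalizer_iff.mp hu R.a).mp haL
      rw [hL, mem_line R hb hb1] at h5
      rcases h5 with e | e | e | e
      · exact absurd e (conj_ne_one R.a_ne)
      · exact Or.inl (hfix u hu (mul_inv_eq_iff_eq_mul.mp e))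
      · refine Or.inr (Or.inl (hfix _ (mul_mem (inv_mem hnN) hu) (mul_inv_eq_iff_eq_mul.mp ?_)))
        rw [show n⁻¹ * u * R.a * (n⁻¹ * u)⁻¹ = n⁻¹ * (u * R.a * u⁻¹) * n by group, e, ← hn1]
        group
      · refine Or.inr (Or.inr (hfix _ (mul_mem (inv_mem (mul_mem hnN hnN)) hu) (mul_inv_eq_iff_eq_mul.mp ?_)))
        rw [show (n * n)⁻¹ * u * R.a * ((n * n)⁻¹ * u)⁻¹ = n⁻¹ * (n⁻¹ * (u * R.a * u⁻¹) * n) * n by simp [mul_assoc], e,
          ← hn2, show n⁻¹ * (n * R.ι b * n⁻¹) * n = R.ι b by group, ← hn1]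
        group
    obtain ⟨M, hM⟩ : ∃ M, M = Subgroup.normalizer (L : Set G) := ⟨_, rfl⟩
    have hMC : ((Subgroup.centralizer (L : Set G)).subgroupOf M).index ≤ 3 := by
      haveI := Fintype.ofFinite G
      let f : Fin 3 → M ⧸ (Subgroup.centralizer (L : Set G)).subgroupOf M := fun i =>
        QuotientGroup.mk (⟨n, hM ▸ hnN⟩ ^ (i : ℕ))
      have hf : Function.Surjective f := by
        intro c
        induction c using QuotientGroup.induction_on with
        | _ u =>
        rcases h3 u (show (u : G) ∈ _ from hM ▸ u.2) with h | h | h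
        · exact ⟨0, QuotientGroup.eq.mpr (by simpa [Subgroup.mem_subgroupOf] using h)⟩
        · exact ⟨1, QuotientGroup.eq.mpr (by simpa [Subgroup.mem_subgroupOf] using h)⟩
        · exact ⟨2, QuotientGroup.eq.mpr (by simpa [Subgroup.mem_subgroupOf, pow_two] using h)⟩
      have := Nat.card_le_card_of_surjective f hf
      rwa [Nat.card_fin, ← Subgroup.index_eq_card] at this
    have hnorm : ((Subgroup.centralizer (L : Set G)).subgroupOf M).Normal := by
      refine ⟨fun c hc v => ?_⟩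
      rw [Subgroup.mem_subgroupOf, Subgroup.mem_centralizer_iff] at hc ⊢
      intro w hw
      have hw' := (Subgroup.mem_normalizer_iff''.mp (show (v : G) ∈ Subgroup.normalizer (L : Set G) from hM ▸ v.2) w).mp hw
      have h9 := (commute_conj_iff (g := (v : G))).mpr (show Commute ((v : G)⁻¹ * w * v) (c : G) from hc _ hw')
      rw [show (v : G) * ((v : G)⁻¹ * w * v) * (v : G)⁻¹ = w by group] at h9
      exact h9.eq
    haveI := hnorm
    let u : M := ⟨y, hM ▸ hyN⟩
    have h6 : orderOf (QuotientGroup.mk' ((Subgroup.centralizer (L : Set G)).subgroupOf M) u) = 1 := by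
      have hd1 : orderOf (QuotientGroup.mk' ((Subgroup.centralizer (L : Set G)).subgroupOf M) u) ∣ orderOf (y : G) := by
        have := orderOf_map_dvd (QuotientGroup.mk' ((Subgroup.centralizer (L : Set G)).subgroupOf M)) u
        rwa [show orderOf u = orderOf (y : G) from (Subgroup.orderOf_coe u).symm] at this
      have hle3 : orderOf (QuotientGroup.mk' ((Subgroup.centralizer (L : Set G)).subgroupOf M) u) ≤ 3 :=
        (Nat.le_of_dvd Nat.card_pos (orderOf_dvd_natCard _)).trans (by rw [← Subgroup.index_eq_card]; exact hMC)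
      have hyX : orderOf (y : G) ∣ Nat.card X := Subgroup.orderOf_dvd_natCard _ y.2
      by_contra hne
      obtain ⟨r, hr, hrd⟩ := Nat.exists_prime_and_dvd hne
      have hr3 := (Nat.le_of_dvd (orderOf_pos _) hrd).trans hle3
      have := hr.two_le
      rcases (show r = 2 ∨ r = 3 by omega) with rfl | rfl
      · have h2 : orderOf (QuotientGroup.mk' ((Subgroup.centralizer (L : Set G)).subgroupOf M) u) = 2 := by
          obtain ⟨c, hc⟩ := hrd
          have := orderOf_pos (QuotientGroup.mk' ((Subgroup.centralizer (L : Set G)).subgroupOf M) u)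
          omega
        have hsub2 : 2 ∣ ((Subgroup.centralizer (L : Set G)).subgroupOf M).index := by
          rw [← h2, Subgroup.index_eq_card]; exact orderOf_dvd_natCard _
        have hi : ((Subgroup.centralizer (L : Set G)).subgroupOf M).index = 2 := by
          obtain ⟨c, hc⟩ := hsub2
          have := ((Subgroup.centralizer (L : Set G)).subgroupOf M).index_ne_zero_of_finite
          omega
        have h7 := Subgroup.sq_mem_of_index_two hi (⟨n, hM ▸ hnN⟩ : M)
        rw [Subgroup.mem_subgroupOf, Subgroup.mem_centralizer_iff] at h7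
        have h8 := h7 R.a (hL ▸ a_mem_lift R _)
        simp only [SubmonoidClass.coe_pow, pow_two] at h8
        have h9 : n * n * R.a * (n * n)⁻¹ = R.a := mul_inv_eq_iff_eq_mul.mpr h8.symm
        rw [show n * n * R.a * (n * n)⁻¹ = n * (n * R.a * n⁻¹) * n⁻¹ by group, hn1, hn2] at h9
        exact hb1 (R.ι_inj ((mul_eq_left.mp h9).trans (map_one _).symm))
      · exact hno3 ((hrd.trans hd1).trans hyX)
    rw [orderOf_eq_one_iff] at h6
    have h10 := (QuotientGroup.eq_one_iff u).mp h6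
    rw [Subgroup.mem_subgroupOf, Subgroup.mem_centralizer_iff] at h10
    rw [Subgroup.mem_centralizer_iff]
    intro v hv
    rw [hPL] at hv
    exact Subtype.ext (h10 v hv)
  have hK := MonoidHom.ker_transferSylow_isComplement' P hle'
  obtain ⟨O, hO⟩ : ∃ O, O = (MonoidHom.transferSylow P hle').ker := ⟨_, rfl⟩
  rw [← hO] at hK
  have hOn : O.Normal := hO ▸ MonoidHom.normal_ker _
  have hcop : (Nat.card (P : Subgroup X)).Coprime (Nat.card O) := by
    have h1 := P.card_coprime_index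
    rwa [hK.index_eq_card] at h1
  haveI : IsMulCommutative (P : Subgroup X) := by
    refine ⟨⟨fun u v => Subtype.ext ?_⟩⟩
    have hu : ((u : X) : G) ∈ L := Subgroup.mem_subgroupOf.mp (SetLike.ext_iff.mp hPL u.1 |>.mp u.2)
    have hv : ((v : X) : G) ∈ L := Subgroup.mem_subgroupOf.mp (SetLike.ext_iff.mp hPL v.1 |>.mp v.2)
    refine Subtype.ext ?_
    show ((u : X) : G) * (v : X) = (v : X) * (u : X)
    calc ((u : X) : G) * (v : X) = (((u : X) : G) * (v : X))⁻¹ :=
          (inv_eq_of_mul_eq_one_left (hLexp _ (mul_mem hu hv))).symm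
      _ = _ := by
          rw [_root_.mul_inv_rev, inv_eq_of_mul_eq_one_left (hLexp _ hv), inv_eq_of_mul_eq_one_left (hLexp _ hu)]
  have hPnc : ¬ IsCyclic (P : Subgroup X) := by
    intro hcy
    obtain ⟨⟨u, hu⟩, huo⟩ := IsCyclic.exists_ofOrder_eq_natCard (α := (P : Subgroup X))
    have hu' : (u : G) ∈ L := by rw [hPL] at hu; exact hu
    have hPc : Nat.card (P : Subgroup X) = 4 := by
      rw [hPL, Nat.card_congr (Subgroup.subgroupOfEquivOfLe hLX).toEquiv, hLc]
    rw [hPc, Subgroup.orderOf_mk, ← Subgroup.orderOf_coe] at huo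
    exact no_four R _ huo
  have hgen := CfsgLib.coprime_generated_by_centralizers (A := (P : Subgroup X)) (K := O) hPnc
    (fun u _ => Subgroup.normalizer_eq_top O ▸ Subgroup.mem_top u) hcop
  have hOW : O ≤ (R.lift W).subgroupOf X := by
    rw [← hgen]
    refine iSup₂_le fun e he => ?_
    rintro z ⟨-, hz⟩
    replace hz : z * e = e * z := Subgroup.mem_centralizer_singleton_iff.mp hz
    have heL : (e : G) ∈ L := by have := he.1; rw [hPL] at this; exact this
    exact hXe e (hLW heL) (fun h => he.2 (Subtype.ext h)) (hLexp _ heL) z z.2 (congrArg Subtype.val hz)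
  refine le_antisymm (fun y hy => ?_) hWX
  have hsup : O ⊔ (P : Subgroup X) = ⊤ := hK.sup_eq_top
  have htop : (⊤ : Subgroup X) ≤ (R.lift W).subgroupOf X := by
    rw [← hsup]
    refine sup_le hOW ?_
    rw [hPL]
    exact fun u hu => hLW hu
  exact htop (Subgroup.mem_top (⟨y, hy⟩ : X))

/-- The torus of order `(q + 1) / 4`. -/
theorem minus_data : ∃ A : Subgroup G, IsCyclic A ∧ Nat.card A = (q + 1) / 4 ∧
    Nat.card (Subgroup.normalizer (A : Set G)) = 6 * (q + 1) ∧
    (∀ g x : G, x ∈ A → x ≠ 1 → g * x * g⁻¹ ∈ A → g ∈ Subgroup.normalizer (A : Set G)) ∧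
    (∀ z : G, z ≠ 1 → orderOf z ∣ (q + 1) / 4 → ∃ g : G, g * z * g⁻¹ ∈ A) := by
  classical
  obtain ⟨k, hk, hk3, ha1, ha2, h3⟩ := arith R
  obtain ⟨x₀, hx₀⟩ := exists_minus R.data
  have hx₀1 : x₀ ≠ 1 := fun e => by rw [e, orderOf_one] at hx₀; omega
  obtain ⟨hs, hT, hC⟩ := minus_torus R.data hx₀1 (dvd_of_eq hx₀)
  obtain ⟨W, hW⟩ : ∃ W, W = (psl (F := F) 3).T x₀ := ⟨_, rfl⟩
  rw [← hW] at hT hC
  haveI : IsCyclic W := hW ▸ (psl (F := F) 3).T_cyclic x₀ hs
  have hx₀W : x₀ ∈ W := hW ▸ (psl (F := F) 3).mem_T x₀ hs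
  haveI := Fact.mk Nat.prime_two
  obtain ⟨⟨b, hbW⟩, hbo⟩ := exists_prime_orderOf_dvd_card' (G := W) 2 (by omega)
  rw [Subgroup.orderOf_mk] at hbo
  have hb1 : b ≠ 1 := fun e => by rw [e, orderOf_one] at hbo; omega
  have hb : b * b = 1 := by rw [← pow_two]; exact orderOf_dvd_iff_pow_eq_one.mp (dvd_of_eq hbo)
  have hTb : (psl (F := F) 3).T b = W := by
    rw [hW] at hbW ⊢
    exact ((psl (F := F) 3).T_eq x₀ b hs hbW hb1).2
  let A := (Subgroup.zpowers x₀).map R.ι
  have hA : Nat.card A = (q + 1) / 4 := by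
    rw [Subgroup.card_map_of_injective R.ι_inj, Nat.card_zpowers, hx₀]
  haveI hAc : IsCyclic A := isCyclic_of_surjective _ (R.ι.subgroupMap_surjective (Subgroup.zpowers x₀))
  obtain ⟨L, hL⟩ : ∃ L, L = R.lift (Subgroup.zpowers b) := ⟨_, rfl⟩
  have hWA : ∀ w ∈ W, orderOf w ∣ (q + 1) / 4 → R.ι w ∈ A := fun w hw hwo =>
    ⟨w, mem_of_pow_eq_one (Subgroup.zpowers_le.mpr hx₀W) hw
      (by rw [Nat.card_zpowers, hx₀]; exact orderOf_dvd_iff_pow_eq_one.mp hwo), rfl⟩
  have hcentA : ∀ z ∈ A, z ≠ 1 → Subgroup.centralizer {z} = R.lift W := by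
    rintro _ ⟨w, hw, rfl⟩ hne
    have hw1 : w ≠ 1 := fun e => hne (by rw [e, map_one])
    have hwo : orderOf w ∣ (q + 1) / 4 := by
      rw [← hx₀, ← Nat.card_zpowers x₀]; exact Subgroup.orderOf_dvd_natCard _ hw
    rw [cent_minus R hw1 hwo, hW]
    congr 1
    exact ((psl (F := F) 3).T_eq x₀ w hs (hW ▸ (Subgroup.zpowers_le.mpr hx₀W) hw) hw1).2
  have hLinv : ∀ y, y ∈ L ↔ y ∈ R.lift W ∧ y * y = 1 := by
    intro y
    constructor
    · intro hy
      rw [hL] at hy
      obtain ⟨w, hw, h⟩ := hy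
      refine ⟨⟨w, (Subgroup.zpowers_le.mpr hbW) hw, h⟩, ?_⟩
      have hw2 : w * w = 1 := by
        have h1 : w ^ Nat.card (Subgroup.zpowers b) = 1 :=
          congrArg Subtype.val (pow_card_eq_one' (x := (⟨w, hw⟩ : Subgroup.zpowers b)))
        rwa [Nat.card_zpowers, orderOf_invol hb1 hb, pow_two] at h1
      rcases h with rfl | rfl
      · rw [← map_mul, hw2, map_one]
      · rw [show R.a * R.ι w * (R.a * R.ι w) = R.a * (R.ι w * R.a) * R.ι w by group, ← (R.a_comm w).eq,
          ← mul_assoc R.a R.a, R.a_sq, one_mul, ← map_mul, hw2, map_one]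
    · rintro ⟨⟨w, hw, h⟩, hy2⟩
      have hw2 : w * w = 1 := by
        refine invol_PSL_of R ?_
        rcases h with rfl | rfl
        · exact hy2
        · rwa [show R.a * R.ι w * (R.a * R.ι w) = R.a * (R.ι w * R.a) * R.ι w by group, ← (R.a_comm w).eq,
            ← mul_assoc R.a R.a, R.a_sq, one_mul] at hy2
      rw [hL]
      refine ⟨w, mem_of_pow_eq_one (Subgroup.zpowers_le.mpr hbW) hw ?_, h⟩
      rw [Nat.card_zpowers, hbo, pow_two]
      exact hw2
  have hTI : ∀ g x : G, x ∈ A → x ≠ 1 → g * x * g⁻¹ ∈ A → g ∈ Subgroup.normalizer (L : Set G) := by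
    intro g x hx hx1 hgx
    have hmap : ∀ y, y ∈ R.lift W ↔ g * y * g⁻¹ ∈ R.lift W := by
      intro y
      conv_lhs => rw [← hcentA x hx hx1, Subgroup.mem_centralizer_singleton_iff]
      conv_rhs => rw [← hcentA _ hgx (conj_ne_one hx1), Subgroup.mem_centralizer_singleton_iff]
      exact (commute_conj_iff (g := g) (x := y) (y := x)).symm
    rw [Subgroup.mem_normalizer_iff]
    intro y
    rw [hLinv, hLinv, hmap y]
    refine and_congr_right fun _ => ?_
    rw [show g * y * g⁻¹ * (g * y * g⁻¹) = g * (y * y) * g⁻¹ by group, mul_inv_eq_one, mul_eq_left]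
  have hCL : ∀ y, y ∈ Subgroup.centralizer (L : Set G) ↔ y ∈ R.lift (Subgroup.centralizer {b}) := by
    intro y
    rw [Subgroup.mem_centralizer_iff]
    constructor
    · intro h
      have haL : R.a ∈ L := hL ▸ a_mem_lift R _
      obtain ⟨z, hz⟩ := R.cent y (h R.a haL).symm
      refine ⟨z, ?_, hz⟩
      have h1 : Commute y (R.ι b) := (h (R.ι b) (hL ▸ (ι_mem_lift R).mpr (Subgroup.mem_zpowers b))).symm
      rw [Subgroup.mem_centralizer_singleton_iff]
      rcases hz with rfl | rfl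
      · exact ((commute_ι_iff R).mp h1).eq
      · exact ((commute_aι_iff R).mp h1).eq
    · rintro ⟨z, hz, h⟩ v hv
      rw [Subgroup.mem_centralizer_singleton_iff] at hz
      have hya : Commute y R.a := by
        rcases h with rfl | rfl
        · exact (R.a_comm z).symm
        · exact ((Commute.refl R.a).mul_right (R.a_comm z)).symm
      have h1 : Commute y (R.ι b) := by
        rcases h with rfl | rfl
        · exact (commute_ι_iff R).mpr hz
        · exact (commute_aι_iff R).mpr hz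
      rw [SetLike.mem_coe, hL, mem_line R hb hb1] at hv
      rcases hv with rfl | rfl | rfl | rfl
      · simp
      · exact hya.eq.symm
      · exact h1.eq.symm
      · exact (hya.mul_right h1).eq.symm
  have hNLA : Subgroup.normalizer (L : Set G) ≤ Subgroup.normalizer (A : Set G) := by
    have key : ∀ y ∈ Subgroup.normalizer (L : Set G), ∀ x ∈ A, y * x * y⁻¹ ∈ A := by
      rintro y hy _ ⟨w, hw, rfl⟩
      have hwW : w ∈ W := (Subgroup.zpowers_le.mpr hx₀W) hw
      have hwo : orderOf w ∣ (q + 1) / 4 := by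
        rw [← hx₀, ← Nat.card_zpowers x₀]; exact Subgroup.orderOf_dvd_natCard _ hw
      have hodd : Odd (orderOf w) := Odd.of_dvd_nat (by rw [ha2]; exact ⟨k, by omega⟩) hwo
      have hbw : Commute w b :=
        congrArg Subtype.val ((IsCyclic.commGroup (α := W)).mul_comm ⟨w, hwW⟩ ⟨b, hbW⟩)
      have h1 : R.ι w ∈ Subgroup.centralizer (L : Set G) :=
        (hCL _).mpr ((ι_mem_lift R).mpr (Subgroup.mem_centralizer_singleton_iff.mpr hbw.eq))
      have h2 : y * R.ι w * y⁻¹ ∈ Subgroup.centralizer (L : Set G) := by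
        rw [Subgroup.mem_centralizer_iff] at h1 ⊢
        intro v hv
        have hv' := (Subgroup.mem_normalizer_iff''.mp hy v).mp hv
        have h3 : Commute (y * R.ι w * y⁻¹) (y * (y⁻¹ * v * y) * y⁻¹) :=
          (commute_conj_iff (g := y)).mpr (h1 _ hv').symm
        rw [show y * (y⁻¹ * v * y) * y⁻¹ = v by group] at h3
        exact h3.eq.symm
      rw [hCL] at h2
      obtain ⟨u, hu, e, huo⟩ := odd_mem_lift R h2 (by rw [orderOf_conj', orderOf_injective R.ι R.ι_inj]; exact hodd)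
      rw [orderOf_conj', orderOf_injective R.ι R.ι_inj] at huo
      rw [e]
      refine hWA u ?_ (huo ▸ hwo)
      rw [cent_invol hb1 hb] at hu
      rw [← hTb]
      by_contra hn
      have h4 := inverter_sq (psl 3) (invol_SS hb1 hb) ((mem_norm_iff (invol_SS hb1 hb)).mp hu) hn
      have hu1 : u ≠ 1 := fun e => hn (e ▸ one_mem _)
      have h5 := orderOf_invol hu1 (by rw [← pow_two]; exact h4)
      rw [← huo, h5] at hodd
      exact absurd hodd (by decide)
    intro y hy
    rw [Subgroup.mem_normalizer_iff]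
    refine fun x => ⟨key y hy x, fun hx => ?_⟩
    have h1 := key y⁻¹ (inv_mem hy) _ hx
    rwa [show y⁻¹ * (y * x * y⁻¹) * y⁻¹⁻¹ = x by group] at h1
  have hιx₀ : R.ι x₀ ∈ A := ⟨x₀, Subgroup.mem_zpowers x₀, rfl⟩
  have hιne : R.ι x₀ ≠ 1 := (map_ne_one_iff R.ι R.ι_inj).mpr hx₀1
  have hNA : Subgroup.normalizer (A : Set G) = Subgroup.normalizer (L : Set G) :=
    le_antisymm (fun g hg => hTI g _ hιx₀ hιne ((Subgroup.mem_normalizer_iff.mp hg _).mp hιx₀)) hNLA
  refine ⟨A, hAc, hA, ?_, fun g x hx hx1 hgx => hNLA (hTI g x hx hx1 hgx), ?_⟩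
  · rw [hNA]
    obtain ⟨n, hn1, hn2⟩ := exists_line R hb1 hb
    obtain ⟨M, hM⟩ : ∃ M, M = Subgroup.normalizer (L : Set G) := ⟨_, rfl⟩
    rw [← hM]
    have haL : R.a ∈ L := hL ▸ a_mem_lift R _
    let a' : M := ⟨R.a, hM ▸ Subgroup.le_normalizer haL⟩
    have hn3 : n * (R.a * R.ι b) * n⁻¹ = R.a := by
      rw [show n * (R.a * R.ι b) * n⁻¹ = (n * R.a * n⁻¹) * (n * R.ι b * n⁻¹) by group, hn1, hn2, ← mul_assoc,
        ← (R.a_comm b).eq, mul_assoc, ← map_mul, hb, map_one, mul_one]
    have hnM : n ∈ M := by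
      have h3 : ∀ v ∈ L, n * v * n⁻¹ ∈ L := by
        intro v hv
        rw [hL, mem_line R hb hb1] at hv ⊢
        rcases hv with rfl | rfl | rfl | rfl
        · left; group
        · right; right; left; exact hn1
        · right; right; right; exact hn2
        · right; left; exact hn3
      have h4 : L.map (MulAut.conj n).toMonoidHom = L := Subgroup.eq_of_le_of_card_ge
        (by rintro _ ⟨v, hv, rfl⟩; exact h3 v hv) (by rw [Subgroup.card_map_of_injective (f := (MulAut.conj n).toMonoidHom) (MulAut.conj n).injective])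
      rw [hM, Subgroup.mem_normalizer_iff]
      intro v
      refine ⟨h3 v, fun hv => ?_⟩
      rw [← h4] at hv
      exact (Subgroup.mem_map_iff_mem (f := (MulAut.conj n).toMonoidHom) (MulAut.conj n).injective).mp hv
    have hcar : Nat.card (ConjClasses.mk a').carrier = 3 := by
      have hιb : R.ι b ≠ 1 := (map_ne_one_iff R.ι R.ι_inj).mpr hb1
      have hmem : ∀ w : M, w ∈ (ConjClasses.mk a').carrier ↔ (w : G) ∈ ({R.a, R.ι b, R.a * R.ι b} : Finset G) := by
        intro w
        rw [ConjClasses.mem_carrier_iff_mk_eq, ConjClasses.mk_eq_mk_iff_isConj]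
        constructor
        · intro h
          obtain ⟨u, hu⟩ := isConj_iff.mp h.symm
          have h1 : (w : G) ∈ L ∧ (w : G) ≠ 1 := by
            rw [← hu]
            exact ⟨(Subgroup.mem_normalizer_iff.mp (show (u : G) ∈ Subgroup.normalizer (L : Set G) from hM ▸ u.2) R.a).mp haL,
              conj_ne_one R.a_ne⟩
          rw [hL, mem_line R hb hb1] at h1
          rcases h1.1 with e | e | e | e
          · exact absurd e h1.2
          all_goals simp [e]
        · intro h
          simp only [Finset.mem_insert, Finset.mem_singleton] at h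
          refine (isConj_iff.mpr ?_).symm
          rcases h with e | e | e
          · exact ⟨1, Subtype.ext (by show 1 * R.a * (1 : G)⁻¹ = _; rw [e]; group)⟩
          · exact ⟨⟨n, hnM⟩, Subtype.ext (by show n * R.a * n⁻¹ = _; rw [hn1, e])⟩
          · exact ⟨⟨n, hnM⟩ * ⟨n, hnM⟩, Subtype.ext (by
              show n * n * R.a * (n * n)⁻¹ = _
              rw [show n * n * R.a * (n * n)⁻¹ = n * (n * R.a * n⁻¹) * n⁻¹ by group, hn1, hn2, e])⟩
      have hle : ∀ z ∈ ({R.a, R.ι b, R.a * R.ι b} : Finset G), z ∈ M := by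
        intro z hz
        simp only [Finset.mem_insert, Finset.mem_singleton] at hz
        refine hM ▸ Subgroup.le_normalizer (hL ▸ (mem_line R hb hb1).mpr ?_)
        tauto
      rw [Nat.card_congr (α := (ConjClasses.mk a').carrier) (β := ({R.a, R.ι b, R.a * R.ι b} : Finset G))
        ⟨fun w => ⟨w.1.1, (hmem w.1).mp w.2⟩, fun w => ⟨⟨w.1, hle w.1 w.2⟩, (hmem _).mpr w.2⟩, fun w => rfl, fun w => rfl⟩,
        Nat.card_eq_finsetCard]
      have h1 : R.a ≠ R.a * R.ι b := fun e => hιb (mul_eq_left.mp e.symm)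
      have h2 : R.ι b ≠ R.a * R.ι b := fun e => R.a_ne (mul_eq_right.mp e.symm)
      rw [Finset.card_insert_of_notMem (by simp [h1, (R.a_notin b).symm]),
        Finset.card_insert_of_notMem (by simp [h2]), Finset.card_singleton]
    have hcen : Nat.card (Subgroup.centralizer ({a'} : Set M)) = 2 * (q + 1) := by
      rw [← card_cent_invol R.data hb1 hb, ← card_lift' R]
      refine Nat.card_congr ⟨fun y => ⟨y.1.1, ?_⟩, fun y => ⟨⟨y.1, ?_⟩, ?_⟩, fun y => rfl, fun y => rfl⟩
      · exact line_fix R hb hb1 (show y.1.1 ∈ Subgroup.normalizer (R.lift (Subgroup.zpowers b) : Set G) from hL ▸ hM ▸ y.1.2)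
          (congrArg Subtype.val (Subgroup.mem_centralizer_singleton_iff.mp y.2))
      · rw [hM]
        exact Subgroup.centralizer_le_normalizer (L : Set G) ((hCL _).mpr y.2)
      · rw [Subgroup.mem_centralizer_singleton_iff]
        exact Subtype.ext (Subgroup.mem_centralizer_iff.mp ((hCL _).mpr y.2) R.a haL).symm
    rw [← CfsgLib.TwoByTwo.card_carrier_mul_centralizer a', hcar, hcen]
    ring
  · intro z hz hzo
    obtain ⟨r, hr, hrz⟩ := Nat.exists_prime_and_dvd (n := orderOf z) (fun e => hz (orderOf_eq_one_iff.mp e))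
    haveI := Fact.mk hr
    have hr3 : 3 < r := by
      have h1 := hrz.trans hzo
      rw [ha2] at h1
      have := hr.two_le
      by_contra hc
      rcases (show r = 2 ∨ r = 3 by omega) with rfl | rfl <;> omega
    obtain ⟨⟨w, hw⟩, hwo⟩ := exists_prime_orderOf_dvd_card' (G := A) r (by rw [hA]; exact hrz.trans hzo)
    rw [Subgroup.orderOf_mk] at hwo
    obtain ⟨g, hg⟩ := conj_of_cyclic_sylow (R.cyclic hr3) (exists_pow_prime hrz) hwo
    have hgA : g * z ^ (orderOf z / r) * g⁻¹ ∈ A := (Subgroup.zpowers_le.mpr hw) hg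
    have hne : g * z ^ (orderOf z / r) * g⁻¹ ≠ 1 := conj_ne_one fun e => by
      have := exists_pow_prime (x := z) hrz
      rw [e, orderOf_one] at this
      exact hr.ne_one this.symm
    have hgz : g * z * g⁻¹ ∈ R.lift W := by
      rw [← hcentA _ hgA hne, Subgroup.mem_centralizer_singleton_iff]
      exact ((commute_conj_iff (g := g)).mpr ((Commute.refl z).pow_right _)).eq
    obtain ⟨u, hu, e, huo⟩ := odd_mem_lift R hgz (by
      rw [orderOf_conj']; exact Odd.of_dvd_nat (by rw [ha2]; exact ⟨k, by omega⟩) hzo)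
    rw [orderOf_conj'] at huo
    exact ⟨g, e ▸ hWA u hu (huo ▸ hzo)⟩

end CfsgLib.ReeTori
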