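import Mathlib
import Cfsg.Agent.Lib.ReeTori.Tori

/-!
The cyclic subgroups of order dividing `q² - q + 1`, the classification of the elements and the class equation.
-/

set_option autoImplicit false
set_option linter.unusedSectionVars false
set_option linter.style.haveILetI false
set_option linter.deprecated false
set_option linter.unusedVariables false

namespace CfsgLib.ReeTori

open CfsgLib.DicksonFull

theorem five_ne : ∀ x : ZMod 5, x ^ 2 - x + 1 ≠ 0 := by decide

variable {G : Type*} [Group G] [Finite G] {F : Type*} [Field F] [Fintype F] {m : ℕ} [Fact (Nat.Prime 3)]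
  [CharP F 3] (R : Ree G F m)

local notation "PSL" => Matrix.ProjectiveSpecialLinearGroup (Fin 2) F
local notation "q" => Fintype.card F

include R

/-- The third cyclotomic factor. -/
theorem nn_cast : ((q ^ 2 - q + 1 : ℕ) : ℤ) = (q : ℤ) ^ 2 - q + 1 := by
  rw [Nat.cast_add, Nat.cast_sub (Nat.le_self_pow two_ne_zero q)]
  push_cast
  ring

theorem cube_eq : q ^ 3 + 1 = (q + 1) * (q ^ 2 - q + 1) := by
  zify
  rw [Nat.cast_sub (Nat.le_self_pow two_ne_zero q)]
  push_cast
  ring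

theorem card_eq : Nat.card G = q ^ 3 * (q - 1) * (q + 1) * (q ^ 2 - q + 1) := by
  rw [R.card_G, cube_eq R]; ring

/-- The primes dividing `q² - q + 1`. -/
theorem nn_prime {r : ℕ} (hr : r.Prime) (h : r ∣ q ^ 2 - q + 1) :
    7 ≤ r ∧ ¬ r ∣ q ∧ ¬ r ∣ q - 1 ∧ ¬ r ∣ q + 1 ∧ r ∣ q ^ 3 + 1 := by
  obtain ⟨k, hk, hk3, -, -, h3⟩ := arith R
  haveI := Fact.mk hr
  have hz : (q : ZMod r) ^ 2 - q + 1 = 0 := by
    have h1 := (ZMod.natCast_eq_zero_iff _ _).mpr h
    push_cast [Nat.cast_sub (Nat.le_self_pow two_ne_zero q)] at h1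
    exact h1
  have hev : q ^ 2 - q = (q - 1) * q := by rw [Nat.sub_mul, one_mul, pow_two]
  have h2 : r ≠ 2 := by
    rintro rfl
    obtain ⟨c, hc⟩ : 2 ∣ q ^ 2 - q := by
      rw [hev]; exact Dvd.dvd.mul_right (by omega) _
    omega
  have hne3 : r ≠ 3 := by
    rintro rfl
    obtain ⟨c, hc⟩ : 3 ∣ q ^ 2 - q := by
      rw [hev]; exact Dvd.dvd.mul_left h3 _
    omega
  have h5 : r ≠ 5 := by
    rintro rfl
    exact five_ne _ hz
  have hq : ¬ r ∣ q := fun h' => by
    rw [(ZMod.natCast_eq_zero_iff _ _).mpr h'] at hz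
    norm_num at hz
  have hm : ¬ r ∣ q - 1 := fun h' => by
    have h1 := (ZMod.natCast_eq_zero_iff _ _).mpr h'
    rw [Nat.cast_sub (by omega), Nat.cast_one, sub_eq_zero] at h1
    rw [h1] at hz
    norm_num at hz
  have hp : ¬ r ∣ q + 1 := fun h' => by
    have h1 := (ZMod.natCast_eq_zero_iff _ _).mpr h'
    push_cast at h1
    have h6 : ((3 : ℕ) : ZMod r) = 0 := by
      push_cast
      linear_combination hz - ((q : ZMod r) - 2) * h1
    have := Nat.le_of_dvd (by norm_num) ((ZMod.natCast_eq_zero_iff _ _).mp h6)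
    have := hr.two_le
    omega
  refine ⟨?_, hq, hm, hp, cube_eq R ▸ Dvd.dvd.mul_left h _⟩
  have h4 : r ≠ 4 := fun e => absurd (e ▸ hr) (by norm_num)
  have h66 : r ≠ 6 := fun e => absurd (e ▸ hr) (by norm_num)
  have := hr.two_le
  omega

/-- A prime divisor of the group order. -/
theorem prime_cases {r : ℕ} (hr : r.Prime) (h : r ∣ Nat.card G) :
    r = 2 ∨ r = 3 ∨ (3 < r ∧ r ∣ q - 1) ∨ (3 < r ∧ r ∣ (q + 1) / 4) ∨ r ∣ q ^ 2 - q + 1 := by
  obtain ⟨k, hk, hk3, -, ha2, -⟩ := arith R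
  rw [card_eq R, hr.dvd_mul, hr.dvd_mul, hr.dvd_mul] at h
  by_cases h2 : r = 2
  · exact Or.inl h2
  by_cases h3 : r = 3
  · exact Or.inr (Or.inl h3)
  have hlt : 3 < r := by have := hr.two_le; omega
  rcases h with ((h | h) | h) | h
  · exfalso
    have h' : r ∣ 3 ^ (2 * m + 1) := by rw [← R.data.hq]; exact hr.dvd_of_dvd_pow h
    exact h3 ((Nat.prime_dvd_prime_iff_eq hr Nat.prime_three).mp (hr.dvd_of_dvd_pow h'))
  · exact Or.inr (Or.inr (Or.inl ⟨hlt, h⟩))
  · refine Or.inr (Or.inr (Or.inr (Or.inl ⟨hlt, ?_⟩)))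
    rw [show q + 1 = 4 * ((q + 1) / 4) by omega] at h
    rcases hr.dvd_mul.mp h with h' | h'
    · exact absurd ((Nat.prime_dvd_prime_iff_eq hr Nat.prime_two).mp
        (hr.dvd_of_dvd_pow (show r ∣ 2 ^ 2 from h'))) h2
    · exact h'
  · exact Or.inr (Or.inr (Or.inr (Or.inr h)))

/-- The centraliser of an element of prime order dividing `q² - q + 1`. -/
theorem big_cent {p : ℕ} [Fact p.Prime] (hp : p ∣ q ^ 2 - q + 1) {x : G} (hx : orderOf x = p) :
    IsCyclic (Subgroup.centralizer {x}) ∧ Nat.card (Subgroup.centralizer {x}) ∣ q ^ 2 - q + 1 := by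
  obtain ⟨k, hk, hk3, ha1, ha2, h3⟩ := arith R
  obtain ⟨hp7, hpq, hpm, hpp, hpc⟩ := nn_prime R (Fact.out : p.Prime) hp
  obtain ⟨-, hcyc, -⟩ := R.seven hpc hpp (by omega) x hx
  obtain ⟨X, hX⟩ : ∃ X, X = Subgroup.centralizer {x} := ⟨_, rfl⟩
  rw [← hX]
  have hmem : ∀ {y : G}, y ∈ X ↔ Commute y x := fun {y} => by
    rw [hX]; exact Subgroup.mem_centralizer_singleton_iff
  have hpr : p.Prime := Fact.out
  have hprimes : ∀ r : ℕ, r.Prime → r ∣ Nat.card X → ¬ r ∣ q ∧ ¬ r ∣ q - 1 ∧ ¬ r ∣ q + 1 := by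
    intro r hr hrX
    haveI := Fact.mk hr
    obtain ⟨⟨z, hz⟩, hzo⟩ := exists_prime_orderOf_dvd_card' (G := X) r hrX
    rw [Subgroup.orderOf_mk] at hzo
    have hzx : Commute z x := hmem.mp hz
    rcases prime_cases R hr (hrX.trans X.card_subgroup_dvd_card) with rfl | rfl | ⟨h1, h2⟩ | ⟨h1, h2⟩ | h2
    · exfalso
      have hz1 : z ≠ 1 := fun e => by rw [e, orderOf_one] at hzo; omega
      have hzz : z * z = 1 := by rw [← pow_two]; exact orderOf_dvd_iff_pow_eq_one.mp (dvd_of_eq hzo)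
      obtain ⟨g, hg⟩ := invol_conj_a R hz1 hzz
      have hc : g * x * g⁻¹ ∈ Subgroup.centralizer {R.a} := by
        rw [Subgroup.mem_centralizer_singleton_iff, ← hg]
        exact ((commute_conj_iff (g := g)).mpr hzx.symm).eq
      have hd := Subgroup.orderOf_dvd_natCard _ hc
      rw [orderOf_conj', hx, card_cent_a R, ← one_pow 2, Nat.sq_sub_sq] at hd
      rcases hpr.dvd_mul.mp hd with h | h
      · exact hpq h
      · rcases hpr.dvd_mul.mp h with h | h
        · exact hpp h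
        · exact hpm h
    · exfalso
      have hd := three_cent R hzo hzx
      rw [hx] at hd
      rcases hpr.dvd_mul.mp hd with h | h
      · exact hpq (hpr.dvd_of_dvd_pow h)
      · exact hpm h
    · exfalso
      have hd := split_prime_cent R (by omega) h2 hzo hzx.symm
      rw [hx] at hd
      exact hpm hd
    · exfalso
      obtain ⟨u, hu⟩ := exists_minus R.data
      obtain ⟨w, hw⟩ : ∃ w : PSL, orderOf w = r :=
        ⟨u ^ (orderOf u / r), exists_pow_prime (hu ▸ h2)⟩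
      obtain ⟨g, hg⟩ := conj_of_cyclic_sylow (R.cyclic h1) hzo (y := R.ι w) (by rw [orderOf_injective R.ι R.ι_inj, hw])
      rw [← MonoidHom.map_zpowers] at hg
      obtain ⟨v, hv, hvg⟩ := hg
      have hvo : orderOf v = r := by rw [← orderOf_injective R.ι R.ι_inj v, hvg, orderOf_conj', hzo]
      have hv1 : v ≠ 1 := fun e => by rw [e, orderOf_one] at hvo; omega
      obtain ⟨-, hT, -⟩ := minus_torus R.data hv1 (hvo ▸ h2)
      have hc : g * x * g⁻¹ ∈ Subgroup.centralizer {R.ι v} := by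
        rw [Subgroup.mem_centralizer_singleton_iff, hvg]
        exact ((commute_conj_iff (g := g)).mpr hzx.symm).eq
      rw [cent_minus R hv1 (hvo ▸ h2)] at hc
      have hd := Subgroup.orderOf_dvd_natCard _ hc
      rw [orderOf_conj', hx, card_lift', hT] at hd
      exact hpp hd
    · obtain ⟨-, h4, h5, h6, -⟩ := nn_prime R hr h2
      exact ⟨h4, h5, h6⟩
  have hcop : (Nat.card X).Coprime (q ^ 3 * (q - 1) * (q + 1)) := by
    refine Nat.coprime_of_dvd fun r hr hrX hr' => ?_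
    obtain ⟨h1, h2, h4⟩ := hprimes r hr hrX
    rcases hr.dvd_mul.mp hr' with h | h
    · rcases hr.dvd_mul.mp h with h | h
      · exact h1 (hr.dvd_of_dvd_pow h)
      · exact h2 h
    · exact h4 h
  refine ⟨hcyc X (fun y hy => hmem.mp hy) ?_, ?_⟩
  · exact Nat.Coprime.coprime_dvd_right (Dvd.dvd.mul_right (Dvd.dvd.mul_left dvd_rfl _) _) hcop
  · exact hcop.dvd_of_dvd_mul_left (card_eq R ▸ X.card_subgroup_dvd_card)

/-- The data of the cyclic subgroup of an element of prime order dividing `q² - q + 1`. -/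
theorem big_data {p : ℕ} [Fact p.Prime] (hp : p ∣ q ^ 2 - q + 1) :
    ∃ A : Subgroup G, IsCyclic A ∧ Nat.card A ∣ q ^ 2 - q + 1 ∧ p ∣ Nat.card A ∧
      (Nat.card A).Coprime ((q ^ 2 - q + 1) / Nat.card A) ∧
      (∃ n : ℕ, n ∣ 6 ∧ Nat.card (Subgroup.normalizer (A : Set G)) = n * Nat.card A) ∧
      (∀ g x : G, x ∈ A → x ≠ 1 → g * x * g⁻¹ ∈ A → g ∈ Subgroup.normalizer (A : Set G)) ∧
      (∀ z : G, z ≠ 1 → orderOf z ∣ q ^ 2 - q + 1 → ¬ (orderOf z).Coprime (Nat.card A) →
        ∃ g : G, g * z * g⁻¹ ∈ A) := by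
  classical
  obtain ⟨k, hk, hk3, ha1, ha2, h3⟩ := arith R
  obtain ⟨hp7, hpq, hpm, hpp, hpc⟩ := nn_prime R (Fact.out : p.Prime) hp
  obtain ⟨x, hx⟩ := exists_prime_orderOf_dvd_card' (G := G) p (by rw [card_eq R]; exact Dvd.dvd.mul_left hp _)
  obtain ⟨-, -, hpow⟩ := R.seven hpc hpp (by omega) x hx
  obtain ⟨hXc, hXd⟩ := big_cent R hp hx
  obtain ⟨X, hX⟩ : ∃ X, X = Subgroup.centralizer {x} := ⟨_, rfl⟩
  rw [← hX] at hXc hXd
  haveI := hXc
  have hmem : ∀ {y : G}, y ∈ X ↔ Commute y x := fun {y} => by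
    rw [hX]; exact Subgroup.mem_centralizer_singleton_iff
  have hxX : x ∈ X := hmem.mpr (Commute.refl x)
  have hXcomm : ∀ {u v : G}, u ∈ X → v ∈ X → Commute u v := fun hu hv =>
    congrArg Subtype.val ((IsCyclic.commGroup (α := X)).mul_comm ⟨_, hu⟩ ⟨_, hv⟩)
  -- every non-identity element has the same centraliser
  have hcent : ∀ y ∈ X, y ≠ 1 → Subgroup.centralizer {y} = X := by
    intro y hy hy1
    refine le_antisymm (fun u hu => ?_) (fun u hu => ?_)
    · rw [Subgroup.mem_centralizer_singleton_iff] at hu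
      obtain ⟨r, hr, hry⟩ := Nat.exists_prime_and_dvd (n := orderOf y) (fun e => hy1 (orderOf_eq_one_iff.mp e))
      haveI := Fact.mk hr
      have hrN : r ∣ q ^ 2 - q + 1 := (hry.trans (Subgroup.orderOf_dvd_natCard _ hy)).trans hXd
      obtain ⟨hZc, -⟩ := big_cent R hrN (exists_pow_prime hry)
      obtain ⟨Z, hZ⟩ : ∃ Z, Z = Subgroup.centralizer {y ^ (orderOf y / r)} := ⟨_, rfl⟩
      rw [← hZ] at hZc
      haveI := hZc
      have hxZ : x ∈ Z := by
        rw [hZ, Subgroup.mem_centralizer_singleton_iff]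
        exact ((hmem.mp hy).symm.pow_right _).eq
      have huZ : u ∈ Z := by
        rw [hZ, Subgroup.mem_centralizer_singleton_iff]
        exact ((show Commute u y from hu).pow_right _).eq
      exact hmem.mpr (congrArg Subtype.val ((IsCyclic.commGroup (α := Z)).mul_comm ⟨u, huZ⟩ ⟨x, hxZ⟩))
    · exact Subgroup.mem_centralizer_singleton_iff.mpr (hXcomm hu hy).eq
  have hTI : ∀ g y : G, y ∈ X → y ≠ 1 → g * y * g⁻¹ ∈ X → g ∈ Subgroup.normalizer (X : Set G) := by
    intro g y hy hy1 hgy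
    rw [Subgroup.mem_normalizer_iff]
    intro u
    conv_lhs => rw [← hcent y hy hy1, Subgroup.mem_centralizer_singleton_iff]
    conv_rhs => rw [← hcent _ hgy (conj_ne_one hy1), Subgroup.mem_centralizer_singleton_iff]
    exact (commute_conj_iff (g := g) (x := u) (y := y)).symm
  have hcover : ∀ z : G, z ≠ 1 → orderOf z ∣ q ^ 2 - q + 1 → ¬ (orderOf z).Coprime (Nat.card X) →
      ∃ g : G, g * z * g⁻¹ ∈ X := by
    intro z hz hzN hnc
    obtain ⟨r, hr, hrz, hrX⟩ := Nat.Prime.not_coprime_iff_dvd.mp hnc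
    haveI := Fact.mk hr
    obtain ⟨hr7, -⟩ := nn_prime R hr (hrX.trans hXd)
    obtain ⟨⟨w, hw⟩, hwo⟩ := exists_prime_orderOf_dvd_card' (G := X) r hrX
    rw [Subgroup.orderOf_mk] at hwo
    obtain ⟨g, hg⟩ := conj_of_cyclic_sylow (R.cyclic (p := r) (by omega)) (exists_pow_prime hrz) hwo
    have hgX := (Subgroup.zpowers_le.mpr hw) hg
    have hne : g * z ^ (orderOf z / r) * g⁻¹ ≠ 1 := conj_ne_one fun e => by
      have := exists_pow_prime (x := z) hrz
      rw [e, orderOf_one] at this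
      exact hr.ne_one this.symm
    refine ⟨g, ?_⟩
    rw [← hcent _ hgX hne, Subgroup.mem_centralizer_singleton_iff]
    exact ((commute_conj_iff (g := g)).mpr ((Commute.refl z).pow_right _)).eq
  -- a Hall subgroup
  have hhall : (Nat.card X).Coprime ((q ^ 2 - q + 1) / Nat.card X) := by
    refine Nat.coprime_of_dvd fun r hr hrX hr' => ?_
    haveI := Fact.mk hr
    obtain ⟨hr7, -⟩ := nn_prime R hr (hrX.trans hXd)
    obtain ⟨⟨w, hw⟩, hwo⟩ := exists_prime_orderOf_dvd_card' (G := X) r hrX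
    rw [Subgroup.orderOf_mk] at hwo
    obtain ⟨P, hP⟩ := (IsPGroup.of_card (n := 1) (by rw [Nat.card_zpowers, hwo, pow_one]) :
      IsPGroup r (Subgroup.zpowers w)).exists_le_sylow
    haveI := R.cyclic (p := r) (by omega) P
    have hPX : (P : Subgroup G) ≤ X := by
      intro u hu
      have hwne : w ≠ 1 := fun e => by rw [e, orderOf_one] at hwo; exact hr.ne_one hwo.symm
      rw [← hcent w hw hwne, Subgroup.mem_centralizer_singleton_iff]
      exact congrArg Subtype.val ((IsCyclic.commGroup (α := (P : Subgroup G))).mul_comm ⟨u, hu⟩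
        ⟨w, hP (Subgroup.mem_zpowers w)⟩)
    have hd := Subgroup.card_dvd_of_le hPX
    rw [Sylow.card_eq_multiplicity] at hd
    obtain ⟨e, he⟩ := hd
    obtain ⟨c, hc⟩ := hr'
    have h0 : r ^ (Nat.card G).factorization r * r ∣ q ^ 2 - q + 1 := by
      generalize r ^ (Nat.card G).factorization r = v at he ⊢
      rw [← Nat.div_mul_cancel hXd, hc, he]
      exact ⟨c * e, by ring⟩
    have h1 : r ^ ((Nat.card G).factorization r + 1) ∣ Nat.card G := by
      rw [pow_succ]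
      refine h0.trans ?_
      conv_rhs => rw [card_eq R]
      exact dvd_mul_left _ _
    exact Nat.pow_succ_factorization_not_dvd Nat.card_pos.ne' hr h1
  refine ⟨X, hXc, hXd, hx ▸ Subgroup.orderOf_dvd_natCard _ hxX, hhall, ?_, hTI, hcover⟩
  -- the normaliser
  obtain ⟨M, hM⟩ : ∃ M, M = Subgroup.normalizer (X : Set G) := ⟨_, rfl⟩
  rw [← hM]
  have hxk : ∀ y : M, ∃ i : ℕ, (y : G) * x * (y : G)⁻¹ = x ^ i := by
    intro y
    have h1 : (y : G) * x * (y : G)⁻¹ ∈ Subgroup.zpowers x := by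
      refine mem_of_pow_eq_one (Subgroup.zpowers_le.mpr hxX)
        ((Subgroup.mem_normalizer_iff.mp (show (y : G) ∈ Subgroup.normalizer (X : Set G) from hM ▸ y.2) x).mp hxX) ?_
      rw [Nat.card_zpowers, conj_pow, pow_orderOf_eq_one, mul_one, mul_inv_cancel]
    obtain ⟨i, hi⟩ := (mem_powers_iff_mem_zpowers (x := x)).mpr h1
    exact ⟨i, hi.symm⟩
  choose kf hkf using hxk
  have hinj : ∀ i j : ℕ, x ^ i = x ^ j → (i : ZMod p) = (j : ZMod p) := by
    intro i j h
    rw [pow_eq_pow_iff_modEq, hx, ← ZMod.natCast_eq_natCast_iff] at h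
    exact h
  let φ : M →* ZMod p :=
    { toFun := fun y => (kf y : ZMod p)
      map_one' := by
        have h1 := hkf 1
        simp only [OneMemClass.coe_one, one_mul, inv_one, mul_one] at h1
        rw [hinj (kf 1) 1 (by rw [← h1, pow_one]), Nat.cast_one]
      map_mul' := fun u v => by
        rw [← Nat.cast_mul]
        refine hinj _ _ ?_
        rw [← hkf, Subgroup.coe_mul, show (u : G) * v * x * ((u : G) * v)⁻¹ = u * ((v : G) * x * (v : G)⁻¹) * (u : G)⁻¹ by group,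
          hkf v, ← conj_pow, hkf u, ← pow_mul] }
  let ψ := φ.toHomUnits
  have hker : ψ.ker = X.subgroupOf M := by
    ext y
    rw [MonoidHom.mem_ker, Subgroup.mem_subgroupOf, hmem, Units.ext_iff, MonoidHom.coe_toHomUnits, Units.val_one]
    show ((kf y : ZMod p) = 1) ↔ _
    constructor
    · intro h
      have h1 : x ^ kf y = x ^ 1 := by
        rw [pow_eq_pow_iff_modEq, hx, ← ZMod.natCast_eq_natCast_iff, Nat.cast_one]; exact h
      rw [← hkf, pow_one, mul_inv_eq_iff_eq_mul] at h1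
      exact h1
    · intro h
      rw [hinj (kf y) 1 (by rw [← hkf, pow_one, h.eq, mul_inv_cancel_right]), Nat.cast_one]
  have h6 : (q : ZMod p) ^ 6 = 1 := by
    have h1 := (ZMod.natCast_eq_zero_iff _ _).mpr hpc
    push_cast at h1
    linear_combination ((q : ZMod p) ^ 3 - 1) * h1
  let Q : (ZMod p)ˣ := ⟨(q : ZMod p), (q : ZMod p) ^ 5, by rw [← pow_succ', h6], by rw [← pow_succ, h6]⟩
  have hrange : ψ.range ≤ Subgroup.zpowers Q := by
    rintro _ ⟨y, rfl⟩
    obtain ⟨j, hj⟩ := hpow y (kf y) (hkf y)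
    refine Subgroup.mem_zpowers_iff.mpr ⟨(j : ℤ), Units.ext ?_⟩
    rw [zpow_natCast, Units.val_pow_eq_pow_val]
    exact hj.symm
  refine ⟨Nat.card ψ.range, (Subgroup.card_dvd_of_le hrange).trans ?_, ?_⟩
  · rw [Nat.card_zpowers]
    exact orderOf_dvd_of_pow_eq_one (Units.ext (by rw [Units.val_pow_eq_pow_val, Units.val_one]; exact h6))
  · rw [← ψ.ker.card_mul_index, Subgroup.index_ker, mul_comm, hker,
      Nat.card_congr (Subgroup.subgroupOfEquivOfLe (hM ▸ Subgroup.le_normalizer : X ≤ M)).toEquiv]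

end CfsgLib.ReeTori
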