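import Mathlib
import Cfsg.Agent.Lib.ReeTori.Big

/-!
The class equation of a small Ree group and the two tori of order `q ± √(3q) + 1`.
-/

set_option autoImplicit false
set_option linter.unusedSectionVars false
set_option linter.style.haveILetI false
set_option linter.deprecated false
set_option linter.unusedVariables false

namespace CfsgLib.ReeTori

open CfsgLib.DicksonFull

/-- The number of non-identity elements of order dividing `d`. -/
noncomputable def cnt (G : Type*) [Group G] (d : ℕ) : ℕ := Nat.card {z : G // z ≠ 1 ∧ orderOf z ∣ d}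

theorem excl {G : Type*} [Group G] {z : G} {a b : ℕ} (h : a.Coprime b) (hz : z ≠ 1) (ha : orderOf z ∣ a)
    (hb : orderOf z ∣ b) : False :=
  hz (orderOf_eq_one_iff.mp (Nat.dvd_one.mp (h ▸ Nat.dvd_gcd ha hb)))

theorem cnt_of_ti {G : Type*} [Group G] [Finite G] (A : Subgroup G)
    (hTI : ∀ g x : G, x ∈ A → x ≠ 1 → g * x * g⁻¹ ∈ A → g ∈ Subgroup.normalizer (A : Set G)) {d : ℕ}
    (hd : ∀ x ∈ A, orderOf x ∣ d) (hcov : ∀ z : G, z ≠ 1 → orderOf z ∣ d → ∃ g : G, g * z * g⁻¹ ∈ A) :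
    cnt G d * Nat.card (Subgroup.normalizer (A : Set G)) = Nat.card G * (Nat.card A - 1) := by
  rw [← ti_count A hTI]
  congr 1
  refine Nat.card_congr (Equiv.subtypeEquivRight fun z => and_congr_right fun hz => ⟨hcov z hz, ?_⟩)
  rintro ⟨g, hg⟩
  rw [← orderOf_conj' g z]
  exact hd _ hg

theorem card_eq_sum {G : Type*} [Fintype G] (P : G → Prop) [DecidablePred P] :
    Nat.card {z // P z} = ∑ z, if P z then 1 else 0 := by
  rw [Nat.card_eq_fintype_card, Fintype.card_subtype, Finset.card_filter]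

theorem cnt_eq_sum (G : Type*) [Group G] [Fintype G] [DecidableEq G] (d : ℕ) :
    cnt G d = ∑ z : G, if z ≠ 1 ∧ orderOf z ∣ d then 1 else 0 := card_eq_sum _

/-- The arithmetic of the class equation. -/
theorem class_arith {g e u a b c q N : ℚ} (hq : 1 < q) (hN : N = q ^ 2 - q + 1) (he : 8 * e = 3 * g)
    (hu : u * (q ^ 3 * (q - 1)) = g * (q ^ 3 - 1)) (ha : a * (2 * (q - 1)) = g * ((q - 1) / 2 - 1))
    (hb : b * (6 * (q + 1)) = g * ((q + 1) / 4 - 1)) (hg : g = q ^ 3 * (q - 1) * (q ^ 3 + 1))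
    (h : g = 1 + e + u + a + b + c) : 3 * N * c = g * (N - (q + 1)) := by
  have hq0 : q ≠ 0 := by linarith
  have h1 : q - 1 ≠ 0 := by linarith
  have h2 : q + 1 ≠ 0 := by linarith
  have h3 : q ^ 2 - q + 1 ≠ 0 := by nlinarith
  have he' : e = 3 * g / 8 := by linarith
  have hu' : u = g * (q ^ 3 - 1) / (q ^ 3 * (q - 1)) := by
    rw [eq_div_iff (mul_ne_zero (pow_ne_zero _ hq0) h1)]; exact hu
  have ha' : a = g * ((q - 1) / 2 - 1) / (2 * (q - 1)) := by
    rw [eq_div_iff (mul_ne_zero two_ne_zero h1)]; exact ha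
  have hb' : b = g * ((q + 1) / 4 - 1) / (6 * (q + 1)) := by
    rw [eq_div_iff (mul_ne_zero (by norm_num) h2)]; exact hb
  have hc : c = g - 1 - e - u - a - b := by linarith
  rw [hc, he', hu', ha', hb', hg, hN]
  field_simp
  ring

variable {G : Type*} [Group G] [Finite G] {F : Type*} [Field F] [Fintype F] {m : ℕ} [Fact (Nat.Prime 3)]
  [CharP F 3] (R : Ree G F m)

local notation "PSL" => Matrix.ProjectiveSpecialLinearGroup (Fin 2) F
local notation "q" => Fintype.card F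

include R

theorem coprimes :
    Nat.Coprime 9 ((q - 1) / 2) ∧ Nat.Coprime 9 ((q + 1) / 4) ∧ Nat.Coprime 9 (q ^ 2 - q + 1) ∧
    Nat.Coprime ((q - 1) / 2) ((q + 1) / 4) ∧ Nat.Coprime ((q - 1) / 2) (q ^ 2 - q + 1) ∧
    Nat.Coprime ((q + 1) / 4) (q ^ 2 - q + 1) := by
  obtain ⟨k, hk, hk3, ha1, ha2, h3⟩ := arith R
  have h9 : ∀ n : ℕ, ¬ 3 ∣ n → Nat.Coprime 9 n := fun n hn =>
    (Nat.Coprime.pow_left 2 ((Nat.prime_three.coprime_iff_not_dvd).mpr hn) : Nat.Coprime (3 ^ 2) n)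
  refine ⟨h9 _ (by omega), h9 _ (by omega), h9 _ fun h => ?_, ?_, ?_, ?_⟩
  · exact absurd (nn_prime R Nat.prime_three h).1 (by norm_num)
  · refine Nat.coprime_of_dvd fun r hr h1 h2 => ?_
    have := Nat.dvd_sub (Dvd.dvd.mul_left h2 2) h1
    rw [show 2 * ((q + 1) / 4) - (q - 1) / 2 = 1 by omega] at this
    exact hr.ne_one (Nat.dvd_one.mp this)
  · refine Nat.coprime_of_dvd fun r hr h1 h2 => ?_
    exact (nn_prime R hr h2).2.2.1 (h1.trans (Nat.div_dvd_of_dvd (by omega)))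
  · refine Nat.coprime_of_dvd fun r hr h1 h2 => ?_
    exact (nn_prime R hr h2).2.2.2.1 (h1.trans (Nat.div_dvd_of_dvd (by omega)))

/-- The orders of the non-identity elements of odd order. -/
theorem classify {z : G} (hz : z ≠ 1) (ho : Odd (orderOf z)) :
    orderOf z ∣ 9 ∨ orderOf z ∣ (q - 1) / 2 ∨ orderOf z ∣ (q + 1) / 4 ∨ orderOf z ∣ q ^ 2 - q + 1 := by
  obtain ⟨k, hk, hk3, ha1, ha2, h3⟩ := arith R
  obtain ⟨r, hr, hrz⟩ := Nat.exists_prime_and_dvd (n := orderOf z) (fun e => hz (orderOf_eq_one_iff.mp e))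
  haveI := Fact.mk hr
  have hy : orderOf (z ^ (orderOf z / r)) = r := exists_pow_prime hrz
  have hc : Commute z (z ^ (orderOf z / r)) := (Commute.refl z).pow_right _
  rcases prime_cases R hr (hrz.trans (orderOf_dvd_natCard z)) with rfl | rfl | ⟨h1, h2⟩ | ⟨h1, h2⟩ | h2
  · exact absurd (even_iff_two_dvd.mpr hrz) (Nat.not_even_iff_odd.mpr ho)
  · left
    have h4 := three_cent R hy hc.symm
    have hpow : ∀ {d : ℕ}, d.Prime → d ∣ orderOf z → d = 3 := by
      intro d hd hdz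
      haveI := Fact.mk hd
      by_contra hne
      have hd2 : d ≠ 2 := fun e => absurd (even_iff_two_dvd.mpr (e ▸ hdz)) (Nat.not_even_iff_odd.mpr ho)
      have hdq : d ∣ q - 1 := (hd.dvd_mul.mp (hdz.trans h4)).resolve_left fun h => hne (by
        have h' : d ∣ 3 ^ (2 * m + 1) := by rw [← R.data.hq]; exact hd.dvd_of_dvd_pow h
        exact (Nat.prime_dvd_prime_iff_eq hd Nat.prime_three).mp (hd.dvd_of_dvd_pow h'))
      have h5 := split_prime_cent R hd2 hdq (exists_pow_prime hdz) (hc.symm.pow_right _)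
      rw [hy] at h5
      omega
    obtain ⟨g, hg⟩ := three_conj R (Nat.eq_prime_pow_of_unique_prime_dvd (orderOf_pos z).ne' hpow)
    rw [← orderOf_conj' g z]
    exact orderOf_dvd_of_pow_eq_one (R.U_pow _ hg)
  · refine Or.inr (Or.inl ?_)
    have h4 := split_prime_cent R (by omega) h2 hy hc
    rw [show q - 1 = 2 * ((q - 1) / 2) by omega] at h4
    exact Nat.Coprime.dvd_of_dvd_mul_left (Nat.coprime_two_right.mpr ho) h4
  · refine Or.inr (Or.inr (Or.inl ?_))
    obtain ⟨u, hu⟩ := exists_minus R.data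
    obtain ⟨w, hw⟩ : ∃ w : PSL, orderOf w = r := ⟨u ^ (orderOf u / r), exists_pow_prime (hu ▸ h2)⟩
    obtain ⟨g, hg⟩ := conj_of_cyclic_sylow (R.cyclic h1) hy (y := R.ι w) (by rw [orderOf_injective R.ι R.ι_inj, hw])
    rw [← MonoidHom.map_zpowers] at hg
    obtain ⟨v, hv, hvg⟩ := hg
    have hvo : orderOf v = r := by rw [← orderOf_injective R.ι R.ι_inj v, hvg, orderOf_conj', hy]
    have hv1 : v ≠ 1 := fun e => by rw [e, orderOf_one] at hvo; omega
    obtain ⟨-, hT, -⟩ := minus_torus R.data hv1 (hvo ▸ h2)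
    have hcm : g * z * g⁻¹ ∈ Subgroup.centralizer {R.ι v} := by
      rw [Subgroup.mem_centralizer_singleton_iff, hvg]
      exact ((commute_conj_iff (g := g)).mpr hc).eq
    rw [cent_minus R hv1 (hvo ▸ h2)] at hcm
    have hd := Subgroup.orderOf_dvd_natCard _ hcm
    rw [orderOf_conj', card_lift', hT, show q + 1 = 2 ^ 2 * ((q + 1) / 4) by omega] at hd
    exact Nat.Coprime.dvd_of_dvd_mul_left (Nat.Coprime.pow_right _ (Nat.coprime_two_right.mpr ho)) hd
  · refine Or.inr (Or.inr (Or.inr ?_))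
    obtain ⟨-, h4⟩ := big_cent R h2 hy
    exact (Subgroup.orderOf_dvd_natCard _ (Subgroup.mem_centralizer_singleton_iff.mpr hc.eq)).trans h4

/-- The number of elements of even order. -/
theorem card_even : 8 * Nat.card {z : G // Even (orderOf z)} = 3 * Nat.card G := by
  classical
  haveI := Fintype.ofFinite G
  let S := (i : {t : G // t ≠ 1 ∧ t * t = 1}) × {z : G // Commute z i.1 ∧ Odd (orderOf z)}
  let f : S → {z : G // Even (orderOf z)} := fun s => ⟨s.1.1 * s.2.1, by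
    by_contra hev
    rw [Nat.not_even_iff_odd] at hev
    obtain ⟨j, hj⟩ := hev
    have h1 := pow_orderOf_eq_one (s.1.1 * s.2.1)
    rw [s.2.2.1.symm.mul_pow] at h1
    have h2 : s.1.1 ^ orderOf (s.1.1 * s.2.1) = s.1.1 := by
      rw [hj, pow_succ, pow_mul, pow_two, s.1.2.2, one_pow, one_mul]
    rw [h2, mul_eq_one_iff_eq_inv] at h1
    have h3 : orderOf s.1.1 ∣ orderOf s.2.1 := by
      rw [congrArg orderOf h1, orderOf_inv]; exact orderOf_pow_dvd _
    rw [orderOf_invol s.1.2.1 s.1.2.2] at h3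
    exact absurd (even_iff_two_dvd.mpr h3) (Nat.not_even_iff_odd.mpr s.2.2.2)⟩
  have hpow : ∀ s : S, (s.1.1 * s.2.1) ^ orderOf s.2.1 = s.1.1 := by
    intro s
    obtain ⟨j, hj⟩ := s.2.2.2
    rw [s.2.2.1.symm.mul_pow, pow_orderOf_eq_one, mul_one, hj, pow_succ, pow_mul, pow_two, s.1.2.2, one_pow, one_mul]
  have hf : Function.Bijective f := by
    constructor
    · rintro ⟨i, z, hz⟩ ⟨i', z', hz'⟩ h
      have hv : i.1 * z = i'.1 * z' := congrArg Subtype.val h
      have hodd : ∀ (x : {t : G // t ≠ 1 ∧ t * t = 1}) {n : ℕ}, Odd n → x.1 ^ n = x.1 := by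
        intro x n hn
        obtain ⟨j, rfl⟩ := hn
        rw [pow_succ, pow_mul, pow_two, x.2.2, one_pow, one_mul]
      have e1 : (i.1 * z) ^ (orderOf z * orderOf z') = i.1 := by
        rw [pow_mul, hpow ⟨i, z, hz⟩]; exact hodd i hz'.2
      have e2 : (i'.1 * z') ^ (orderOf z' * orderOf z) = i'.1 := by
        rw [pow_mul, hpow ⟨i', z', hz'⟩]; exact hodd i' hz.2
      obtain rfl : i = i' := Subtype.ext (by rw [← e1, ← e2, hv, mul_comm])
      obtain rfl : z = z' := mul_left_cancel hv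
      rfl
    · rintro ⟨g, hg⟩
      obtain ⟨h1, h2⟩ := even_pow hg
      obtain ⟨e, he⟩ : ∃ e, orderOf g = e + e := hg
      rw [show orderOf g / 2 = e by omega] at h1 h2
      have hpos := orderOf_pos g
      have hodd : Odd e := by
        rw [← Nat.not_even_iff_odd]
        rintro ⟨c, hc⟩
        refine no_four R (g ^ c) ?_
        rw [orderOf_pow, he, hc, show c + c + (c + c) = 4 * c by ring, Nat.gcd_eq_right (dvd_mul_left c 4),
          Nat.mul_div_cancel _ (by omega)]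
      refine ⟨⟨⟨g ^ e, h1, h2⟩, g ^ (e + 1), (Commute.refl g).pow_pow _ _, ?_⟩, Subtype.ext ?_⟩
      · refine Odd.of_dvd_nat hodd (orderOf_dvd_of_pow_eq_one ?_)
        obtain ⟨c, hc⟩ := hodd
        rw [← pow_mul, show (e + 1) * e = (c + 1) * orderOf g by rw [he, hc]; ring]
        rw [pow_mul', pow_orderOf_eq_one, one_pow]
      · show g ^ e * g ^ (e + 1) = g
        rw [← pow_add, show e + (e + 1) = orderOf g + 1 by omega, pow_succ, pow_orderOf_eq_one, one_mul]
  rw [← Nat.card_congr (Equiv.ofBijective f hf), Nat.card_sigma,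
    Finset.sum_congr rfl (g := fun _ => Nat.card {y : PSL // Odd (orderOf y)}), Finset.sum_const, smul_eq_mul,
    Finset.card_univ, ← Nat.card_eq_fintype_card, ← card_invol R, ← mul_assoc, mul_comm 8, mul_assoc,
    odd_count R.data]
  · ring
  · intro i _
    obtain ⟨g, hg⟩ := invol_conj_a R i.2.1 i.2.2
    let h : {y : PSL // Odd (orderOf y)} → {z : G // Commute z i.1 ∧ Odd (orderOf z)} := fun y =>
      ⟨g⁻¹ * R.ι y.1 * g, by
        rw [show g⁻¹ * R.ι y.1 * g = g⁻¹ * R.ι y.1 * g⁻¹⁻¹ by rw [inv_inv], orderOf_conj', orderOf_injective R.ι R.ι_inj,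
          show i.1 = g⁻¹ * R.a * g⁻¹⁻¹ by rw [← hg]; group, commute_conj_iff]
        exact ⟨(R.a_comm y.1).symm, y.2⟩⟩
    refine (Nat.card_congr (Equiv.ofBijective h ⟨fun y y' e => ?_, ?_⟩)).symm
    · have e' : g⁻¹ * R.ι y.1 * g = g⁻¹ * R.ι y'.1 * g := congrArg Subtype.val e
      rw [mul_left_inj, mul_right_inj] at e'
      exact Subtype.ext (R.ι_inj e')
    · rintro ⟨z, hz, hzo⟩
      have h1 : g * z * g⁻¹ ∈ R.lift ⊤ := by
        rw [← centralizer_a R, Subgroup.mem_centralizer_singleton_iff, ← hg]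
        exact ((commute_conj_iff (g := g)).mpr hz).eq
      obtain ⟨w, -, e, hwo⟩ := odd_mem_lift R h1 (by rwa [orderOf_conj'])
      refine ⟨⟨w, by rw [hwo, orderOf_conj']; exact hzo⟩, Subtype.ext ?_⟩
      show g⁻¹ * R.ι w * g = z
      rw [← e]; group

/-- The class equation. -/
theorem cnt_big : 3 * (q ^ 2 - q + 1) * cnt G (q ^ 2 - q + 1) = Nat.card G * (q ^ 2 - q + 1 - (q + 1)) := by
  classical
  haveI := Fintype.ofFinite G
  obtain ⟨k, hk, hk3, ha1, ha2, h3⟩ := arith R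
  obtain ⟨A, -, hA, hNA, hTA, hcA⟩ := split_data R
  obtain ⟨B, -, hB, hNB, hTB, hcB⟩ := minus_data R
  have e1 := cnt_of_ti A hTA (fun x hx => Subgroup.orderOf_dvd_natCard _ hx) (by rw [hA]; exact hcA)
  have e2 := cnt_of_ti B hTB (fun x hx => Subgroup.orderOf_dvd_natCard _ hx) (by rw [hB]; exact hcB)
  have e3 := cnt_of_ti R.U R.U_ti (d := 9) (fun x hx => orderOf_dvd_of_pow_eq_one (R.U_pow x hx)) (fun z _ hz => by
    obtain ⟨i, -, hi⟩ := (Nat.dvd_prime_pow Nat.prime_three).mp (show orderOf z ∣ 3 ^ 2 from hz)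
    exact three_conj R hi)
  rw [hA, hNA] at e1
  rw [hB, hNB] at e2
  rw [R.card_U, R.card_NU] at e3
  obtain ⟨c1, c2, c3, c4, c5, c6⟩ := coprimes R
  have htot : Nat.card G = 1 + Nat.card {z : G // Even (orderOf z)} + cnt G 9 + cnt G ((q - 1) / 2) +
      cnt G ((q + 1) / 4) + cnt G (q ^ 2 - q + 1) := by
    have hone : ∑ z : G, (if z = 1 then 1 else 0) = 1 := by simp
    suffices h : Nat.card G = (∑ z : G, (if z = 1 then 1 else 0)) + Nat.card {z : G // Even (orderOf z)} + cnt G 9 +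
        cnt G ((q - 1) / 2) + cnt G ((q + 1) / 4) + cnt G (q ^ 2 - q + 1) by rwa [hone] at h
    rw [cnt_eq_sum, cnt_eq_sum, cnt_eq_sum, cnt_eq_sum, card_eq_sum,
      ← Finset.sum_add_distrib, ← Finset.sum_add_distrib, ← Finset.sum_add_distrib, ← Finset.sum_add_distrib,
      ← Finset.sum_add_distrib, Nat.card_eq_fintype_card, Fintype.card_eq_sum_ones]
    refine Finset.sum_congr rfl fun z _ => ?_
    by_cases hz : z = 1
    · subst hz; simp
    by_cases he : Even (orderOf z)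
    · have hno : ∀ d : ℕ, Odd d → ¬ (z ≠ 1 ∧ orderOf z ∣ d) := fun d hd h =>
        Nat.not_even_iff_odd.mpr (Odd.of_dvd_nat hd h.2) he
      rw [if_neg hz, if_pos he, if_neg (hno 9 (by decide)), if_neg (hno _ ⟨2 * k, by omega⟩),
        if_neg (hno _ ⟨k, by omega⟩), if_neg (hno _ ?_)]
      refine Nat.not_even_iff_odd.mp fun h => ?_
      exact absurd (nn_prime R Nat.prime_two (even_iff_two_dvd.mp h)).1 (by norm_num)
    · rw [if_neg hz, if_neg he]
      rcases classify R hz (Nat.not_even_iff_odd.mp he) with h | h | h | h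
      · rw [if_pos ⟨hz, h⟩, if_neg (fun h' => excl c1 hz h h'.2), if_neg (fun h' => excl c2 hz h h'.2),
          if_neg (fun h' => excl c3 hz h h'.2)]
      · rw [if_neg (fun h' => excl c1 hz h'.2 h), if_pos ⟨hz, h⟩, if_neg (fun h' => excl c4 hz h h'.2),
          if_neg (fun h' => excl c5 hz h h'.2)]
      · rw [if_neg (fun h' => excl c2 hz h'.2 h), if_neg (fun h' => excl c4 hz h'.2 h), if_pos ⟨hz, h⟩,
          if_neg (fun h' => excl c6 hz h h'.2)]
      · rw [if_neg (fun h' => excl c3 hz h'.2 h), if_neg (fun h' => excl c5 hz h'.2 h),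
          if_neg (fun h' => excl c6 hz h'.2 h), if_pos ⟨hz, h⟩]
  have e0 := card_even R
  have hq1 : 1 ≤ q ^ 3 := Nat.one_le_pow _ _ (by omega)
  have hNN : q + 1 ≤ q ^ 2 - q + 1 := by
    have : q * 2 ≤ q * q := Nat.mul_le_mul_left q (by omega)
    rw [pow_two]; omega
  qify [hNN] at htot e0 e1 e2 e3 ⊢
  have hNc : ((q ^ 2 - q + 1 : ℕ) : ℚ) = (q : ℚ) ^ 2 - q + 1 := by
    rw [Nat.cast_add, Nat.cast_sub (Nat.le_self_pow two_ne_zero q)]; push_cast; ring
  have hGc : (Nat.card G : ℚ) = (q : ℚ) ^ 3 * ((q : ℚ) - 1) * ((q : ℚ) ^ 3 + 1) := by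
    rw [R.card_G]; push_cast [show 1 ≤ q by omega]; ring
  have hd1 : (((q - 1) / 2 : ℕ) : ℚ) = ((q : ℚ) - 1) / 2 := by
    rw [Nat.cast_div (by omega) (by norm_num), Nat.cast_sub (by omega)]; norm_num
  have hd2 : (((q + 1) / 4 : ℕ) : ℚ) = ((q : ℚ) + 1) / 4 := by
    rw [Nat.cast_div (by omega) (by norm_num)]; push_cast; ring
  rw [Nat.cast_sub (by omega : 1 ≤ (q - 1) / 2), hd1] at e1
  rw [Nat.cast_sub (by omega : 1 ≤ (q + 1) / 4), hd2] at e2
  rw [Nat.cast_sub (by omega : 1 ≤ q ^ 3)] at e3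
  push_cast [show 1 ≤ q by omega] at e1 e2 e3 hNc ⊢
  exact class_arith (by exact_mod_cast (show 1 < q by omega)) hNc e0 e3 e1 e2 hGc htot

set_option maxHeartbeats 2000000 in
/-- The tori of order `q ± √(3q) + 1`. -/
theorem big_pair : ∃ A B : Subgroup G,
    (IsCyclic A ∧ Nat.card A = q - 3 ^ (m + 1) + 1 ∧
      Nat.card (Subgroup.normalizer (A : Set G)) = 6 * (q - 3 ^ (m + 1) + 1) ∧
      (∀ g x : G, x ∈ A → x ≠ 1 → g * x * g⁻¹ ∈ A → g ∈ Subgroup.normalizer (A : Set G))) ∧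
    (IsCyclic B ∧ Nat.card B = q + 3 ^ (m + 1) + 1 ∧
      Nat.card (Subgroup.normalizer (B : Set G)) = 6 * (q + 3 ^ (m + 1) + 1) ∧
      (∀ g x : G, x ∈ B → x ≠ 1 → g * x * g⁻¹ ∈ B → g ∈ Subgroup.normalizer (B : Set G))) ∧
    ∀ z : G, orderOf z ∣ q ^ 2 - q + 1 → orderOf z ∣ q - 3 ^ (m + 1) + 1 ∨ orderOf z ∣ q + 3 ^ (m + 1) + 1 := by
  classical
  haveI := Fintype.ofFinite G
  obtain ⟨k, hk, hk3, ha1, ha2, h3⟩ := arith R
  obtain ⟨N, hN⟩ : ∃ N, N = q ^ 2 - q + 1 := ⟨_, rfl⟩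
  have hNz : (N : ℤ) = (q : ℤ) ^ 2 - q + 1 := hN ▸ nn_cast R
  have hN1 : N ≠ 1 := by
    intro e
    have : (27 : ℤ) ≤ q := by exact_mod_cast (show 27 ≤ q by omega)
    rw [e] at hNz
    push_cast at hNz
    nlinarith
  have hN0 : 0 < N := by omega
  have hG0 : 0 < Nat.card G := Nat.card_pos
  have hcN := cnt_big R
  rw [← hN] at hcN ⊢
  have hup : 3 * cnt G N < Nat.card G := by
    by_contra hc
    have h1 : N * Nat.card G ≤ N * (3 * cnt G N) := Nat.mul_le_mul_left _ (by omega)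
    have h2 : Nat.card G * (N - (q + 1)) < Nat.card G * N := Nat.mul_lt_mul_of_pos_left (by omega) hG0
    rw [← hcN] at h2
    nlinarith
  have hdata : ∀ p : ℕ, p.Prime → p ∣ N → ∃ (A : Subgroup G) (n : ℕ), IsCyclic A ∧ Nat.card A ∣ N ∧ p ∣ Nat.card A ∧
      (Nat.card A).Coprime (N / Nat.card A) ∧ n ∣ 6 ∧ Nat.card (Subgroup.normalizer (A : Set G)) = n * Nat.card A ∧
      (∀ g x : G, x ∈ A → x ≠ 1 → g * x * g⁻¹ ∈ A → g ∈ Subgroup.normalizer (A : Set G)) ∧
      (∀ z : G, z ≠ 1 → orderOf z ∣ N → ¬ (orderOf z).Coprime (Nat.card A) → orderOf z ∣ Nat.card A) ∧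
      cnt G (Nat.card A) * (n * Nat.card A) = Nat.card G * (Nat.card A - 1) ∧ 7 ≤ Nat.card A := by
    intro p hp hpN
    haveI := Fact.mk hp
    rw [hN] at hpN ⊢
    obtain ⟨A, hc, hd, hpA, hcop, ⟨n, hn, hNA⟩, hTI, hcov⟩ := big_data R hpN
    refine ⟨A, n, hc, hd, hpA, hcop, hn, hNA, hTI, fun z hz hzN hnc => ?_, ?_, ?_⟩
    · obtain ⟨g, hg⟩ := hcov z hz hzN hnc
      rw [← orderOf_conj' g z]
      exact Subgroup.orderOf_dvd_natCard _ hg
    · rw [← hNA]
      refine cnt_of_ti A hTI (fun x hx => Subgroup.orderOf_dvd_natCard _ hx) fun z hz hzA => hcov z hz (hzA.trans hd) ?_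
      intro h
      exact hz (orderOf_eq_one_iff.mp (Nat.eq_one_of_dvd_coprimes h dvd_rfl hzA))
    · exact le_trans (nn_prime R hp hpN).1 (Nat.le_of_dvd Nat.card_pos hpA)
  have hlow : ∀ {c t n : ℕ}, 7 ≤ t → n ∣ 6 → c * (n * t) = Nat.card G * (t - 1) →
      Nat.card G ≤ 7 * c ∧ (n ≤ 3 → 2 * Nat.card G ≤ 7 * c) := by
    intro c t n ht hn h
    have hn6 : n ≤ 6 := Nat.le_of_dvd (by norm_num) hn
    have h1 : 6 * t ≤ 7 * (t - 1) := by omega
    constructor
    · refine Nat.le_of_mul_le_mul_left (c := 6 * t) ?_ (by omega)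
      calc 6 * t * Nat.card G ≤ 7 * (t - 1) * Nat.card G := Nat.mul_le_mul_right _ h1
        _ = 7 * (c * (n * t)) := by rw [h]; ring
        _ ≤ 7 * (c * (6 * t)) := Nat.mul_le_mul_left _ (Nat.mul_le_mul_left _ (Nat.mul_le_mul_right _ hn6))
        _ = 6 * t * (7 * c) := by ring
    · intro hn3
      refine Nat.le_of_mul_le_mul_left (c := 3 * t) ?_ (by omega)
      calc 3 * t * (2 * Nat.card G) = 6 * t * Nat.card G := by ring
        _ ≤ 7 * (t - 1) * Nat.card G := Nat.mul_le_mul_right _ h1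
        _ = 7 * (c * (n * t)) := by rw [h]; ring
        _ ≤ 7 * (c * (3 * t)) := Nat.mul_le_mul_left _ (Nat.mul_le_mul_left _ (Nat.mul_le_mul_right _ hn3))
        _ = 3 * t * (7 * c) := by ring
  have hgen : ∀ A : Subgroup G, IsCyclic A → ∃ z ∈ A, orderOf z = Nat.card A := by
    intro A hA
    haveI := hA
    obtain ⟨⟨z, hz⟩, e⟩ := IsCyclic.exists_ofOrder_eq_natCard (α := A)
    exact ⟨z, hz, by rwa [Subgroup.orderOf_mk] at e⟩
  -- a subgroup for a new prime is coprime to the old one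
  have hnew : ∀ (A B : Subgroup G) (r : ℕ), r.Prime → r ∣ N / Nat.card A → Nat.card A ∣ N →
      (Nat.card A).Coprime (N / Nat.card A) →
      (∀ z : G, z ≠ 1 → orderOf z ∣ N → ¬ (orderOf z).Coprime (Nat.card A) → orderOf z ∣ Nat.card A) →
      IsCyclic B → Nat.card B ∣ N → r ∣ Nat.card B → (Nat.card A).Coprime (Nat.card B) := by
    intro A B r hr hrA hAN hcop hcov hB hBN hrB
    by_contra hnc
    obtain ⟨z, hzB, hzo⟩ := hgen B hB
    have hz : z ≠ 1 := fun e => by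
      rw [e, orderOf_one] at hzo
      rw [← hzo] at hrB
      exact hr.ne_one (Nat.dvd_one.mp hrB)
    have hd := hcov z hz (hzo ▸ hBN) (by rw [hzo, Nat.coprime_comm]; exact hnc)
    rw [hzo] at hd
    exact hr.ne_one (Nat.eq_one_of_dvd_coprimes hcop (hrB.trans hd) hrA)
  -- the first class
  obtain ⟨p, hp, hpN⟩ := Nat.exists_prime_and_dvd hN1
  obtain ⟨A, n, hAc, hAd, hpA, hAcop, hn, hNA, hTA, hcovA, hcA, hA7⟩ := hdata p hp hpN
  have hne : N / Nat.card A ≠ 1 := by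
    intro e
    have hAN : Nat.card A = N := by
      have := Nat.div_mul_cancel hAd
      rw [e, one_mul] at this
      exact this
    rw [hAN] at hcA
    have key : 3 * (N - 1) = n * (N - (q + 1)) := by
      refine Nat.eq_of_mul_eq_mul_left hG0 ?_
      calc Nat.card G * (3 * (N - 1)) = 3 * (Nat.card G * (N - 1)) := by ring
        _ = n * (3 * N * cnt G N) := by rw [← hcA]; ring
        _ = Nat.card G * (n * (N - (q + 1))) := by rw [hcN]; ring
    have hq27 : (27 : ℤ) ≤ q := by exact_mod_cast (show 27 ≤ q by omega)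
    have hbig : q + 1 ≤ N := by
      zify; rw [hNz]; nlinarith
    zify [show 1 ≤ N by omega, hbig] at key
    rw [hNz] at key
    have hn' : n ≤ 6 := Nat.le_of_dvd (by norm_num) hn
    interval_cases n <;> norm_num at hn <;> push_cast at key <;> nlinarith
  obtain ⟨r, hr, hrA⟩ := Nat.exists_prime_and_dvd hne
  obtain ⟨B, n', hBc, hBd, hrB, hBcop, hn', hNB, hTB, hcovB, hcB, hB7⟩ := hdata r hr (hrA.trans (Nat.div_dvd_of_dvd hAd))
  have hAB := hnew A B r hr hrA hAd hAcop hcovA hBc hBd hrB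
  have hABd : Nat.card A * Nat.card B ∣ N := hAB.mul_dvd_of_dvd_of_dvd hAd hBd
  -- no third class
  have hprod : Nat.card A * Nat.card B = N := by
    by_contra hne'
    have h1 : N / (Nat.card A * Nat.card B) ≠ 1 := fun e => hne' (by
      have := Nat.div_mul_cancel hABd
      rwa [e, one_mul] at this)
    obtain ⟨s, hs, hsd⟩ := Nat.exists_prime_and_dvd h1
    have hdiv : ∀ {a b : ℕ}, a ≠ 0 → a * b ∣ N → N / (a * b) ∣ N / a := by
      intro a b ha h
      obtain ⟨c, hc⟩ := h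
      rcases Nat.eq_zero_or_pos b with rfl | hb
      · rw [mul_zero, zero_mul] at hc; omega
      rw [hc, Nat.mul_div_cancel_left _ (Nat.mul_pos (Nat.pos_of_ne_zero ha) hb), mul_assoc,
        Nat.mul_div_cancel_left _ (Nat.pos_of_ne_zero ha)]
      exact dvd_mul_left _ _
    have hsA : s ∣ N / Nat.card A := hsd.trans (hdiv (by omega) hABd)
    have hsB : s ∣ N / Nat.card B := hsd.trans (by
      rw [mul_comm (Nat.card A)]
      exact hdiv (by omega) (mul_comm (Nat.card A) (Nat.card B) ▸ hABd))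
    obtain ⟨C, n'', hCc, hCd, hsC, -, hn'', -, -, -, hcC, hC7⟩ := hdata s hs (hsA.trans (Nat.div_dvd_of_dvd hAd))
    have hAC := hnew A C s hs hsA hAd hAcop hcovA hCc hCd hsC
    have hBC := hnew B C s hs hsB hBd hBcop hcovB hCc hCd hsC
    have h2 : cnt G (Nat.card A) + cnt G (Nat.card B) + cnt G (Nat.card C) ≤ cnt G N := by
      rw [cnt_eq_sum, cnt_eq_sum, cnt_eq_sum, cnt_eq_sum,
        ← Finset.sum_add_distrib, ← Finset.sum_add_distrib]
      refine Finset.sum_le_sum fun z _ => ?_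
      by_cases hA : z ≠ 1 ∧ orderOf z ∣ Nat.card A
      · rw [if_pos hA, if_neg (fun h => excl hAB hA.1 hA.2 h.2), if_neg (fun h => excl hAC hA.1 hA.2 h.2),
          if_pos ⟨hA.1, hA.2.trans hAd⟩]
      by_cases hB : z ≠ 1 ∧ orderOf z ∣ Nat.card B
      · rw [if_neg hA, if_pos hB, if_neg (fun h => excl hBC hB.1 hB.2 h.2), if_pos ⟨hB.1, hB.2.trans hBd⟩]
      by_cases hC : z ≠ 1 ∧ orderOf z ∣ Nat.card C
      · rw [if_neg hA, if_neg hB, if_pos hC, if_pos ⟨hC.1, hC.2.trans hCd⟩]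
      rw [if_neg hA, if_neg hB, if_neg hC]; exact Nat.zero_le _
    have := (hlow hA7 hn hcA).1
    have := (hlow hB7 hn' hcB).1
    have := (hlow hC7 hn'' hcC).1
    omega
  have hcases : ∀ z : G, z ≠ 1 → orderOf z ∣ N → orderOf z ∣ Nat.card A ∨ orderOf z ∣ Nat.card B := by
    intro z hz hzN
    obtain ⟨s, hs, hsz⟩ := Nat.exists_prime_and_dvd (n := orderOf z) (fun e => hz (orderOf_eq_one_iff.mp e))
    have h := hsz.trans hzN
    rw [← hprod] at h
    rcases hs.dvd_mul.mp h with h | h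
    · exact Or.inl (hcovA z hz hzN (Nat.not_coprime_of_dvd_of_dvd hs.one_lt hsz h))
    · exact Or.inr (hcovB z hz hzN (Nat.not_coprime_of_dvd_of_dvd hs.one_lt hsz h))
  have hsum : cnt G (Nat.card A) + cnt G (Nat.card B) = cnt G N := by
    rw [cnt_eq_sum, cnt_eq_sum, cnt_eq_sum, ← Finset.sum_add_distrib]
    refine Finset.sum_congr rfl fun z _ => ?_
    by_cases hz : z ≠ 1 ∧ orderOf z ∣ N
    · rcases hcases z hz.1 hz.2 with h | h
      · rw [if_pos ⟨hz.1, h⟩, if_neg (fun h' => excl hAB hz.1 h h'.2), if_pos hz]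
      · rw [if_neg (fun h' => excl hAB hz.1 h'.2 h), if_pos ⟨hz.1, h⟩, if_pos hz]
    · rw [if_neg (fun h => hz ⟨h.1, h.2.trans hAd⟩), if_neg (fun h => hz ⟨h.1, h.2.trans hBd⟩), if_neg hz]
  obtain ⟨hlA, hlA'⟩ := hlow hA7 hn hcA
  obtain ⟨hlB, hlB'⟩ := hlow hB7 hn' hcB
  have hsix : ∀ {i : ℕ}, i ∣ 6 → ¬ i ≤ 3 → i = 6 := by
    intro i hi h
    have := Nat.le_of_dvd (by norm_num) hi
    interval_cases i <;> first | rfl | (norm_num at hi)
  obtain rfl : n = 6 := hsix hn fun h => by have := hlA' h; omega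
  obtain rfl : n' = 6 := hsix hn' fun h => by have := hlB' h; omega
  have hs3 : (3 : ℤ) ^ (m + 1) * 3 ^ (m + 1) = 3 * q := by
    rw [R.data.hq]; push_cast; rw [← pow_add, ← pow_succ']; congr 1; ring
  have hslt : 3 ^ (m + 1) < q := by
    rw [R.data.hq]
    exact Nat.pow_lt_pow_right (by norm_num) (by have := R.data.hm; omega)
  have hsumt : ((Nat.card A : ℤ) - (q - 3 ^ (m + 1) + 1)) * ((Nat.card A : ℤ) - (q + 3 ^ (m + 1) + 1)) = 0 := by
    have hbig : q + 1 ≤ N := by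
      zify; rw [hNz]
      have : (27 : ℤ) ≤ q := by exact_mod_cast (show 27 ≤ q by omega)
      nlinarith
    have hG' : (Nat.card G : ℤ) ≠ 0 := by exact_mod_cast hG0.ne'
    have hP : ((Nat.card A : ℤ) * Nat.card B) = N := by exact_mod_cast hprod
    zify [hbig, show 1 ≤ Nat.card A by omega, show 1 ≤ Nat.card B by omega] at hcN hcA hcB hsum
    have key : (Nat.card G : ℤ) * ((Nat.card A : ℤ) + Nat.card B) = Nat.card G * (2 * (q + 1)) := by
      linear_combination (Nat.card B : ℤ) * hcA + (Nat.card A : ℤ) * hcB - 2 * hcN - 6 * (N : ℤ) * hsum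
        + (2 * (Nat.card G : ℤ) - 6 * ((cnt G (Nat.card A) : ℤ) + cnt G (Nat.card B))) * hP
    have h2 := mul_left_cancel₀ hG' key
    linear_combination (Nat.card A : ℤ) * h2 - hP - hNz - hs3
  rcases mul_eq_zero.mp hsumt with h | h
  · have eA : Nat.card A = q - 3 ^ (m + 1) + 1 := by
      zify [hslt.le]; linarith
    have eB : Nat.card B = q + 3 ^ (m + 1) + 1 := by
      refine Nat.eq_of_mul_eq_mul_left (show 0 < Nat.card A by omega) ?_
      rw [hprod, eA]; zify [hslt.le]; rw [hNz]; linear_combination hs3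
    refine ⟨A, B, ⟨hAc, eA, by rw [hNA, eA], hTA⟩, ⟨hBc, eB, by rw [hNB, eB], hTB⟩, fun z hz => ?_⟩
    by_cases h1 : z = 1
    · left; rw [h1, orderOf_one]; exact one_dvd _
    · rw [← eA, ← eB]; exact hcases z h1 hz
  · have eA : Nat.card A = q + 3 ^ (m + 1) + 1 := by
      zify; linarith
    have eB : Nat.card B = q - 3 ^ (m + 1) + 1 := by
      refine Nat.eq_of_mul_eq_mul_left (show 0 < Nat.card A by omega) ?_
      rw [hprod, eA]; zify [hslt.le]; rw [hNz]; linear_combination hs3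
    refine ⟨B, A, ⟨hBc, eB, by rw [hNB, eB], hTB⟩, ⟨hAc, eA, by rw [hNA, eA], hTA⟩, fun z hz => ?_⟩
    by_cases h1 : z = 1
    · left; rw [h1, orderOf_one]; exact one_dvd _
    · rw [← eA, ← eB]; exact (hcases z h1 hz).symm

end CfsgLib.ReeTori
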