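import Mathlib
import Cfsg.Agent.Lib.ReeSylowCyclic

/-!
Centralisers in `GL₇(q)` of the elements of order `p` for `p` dividing `q³ + 1` but not `q + 1`.
-/

set_option autoImplicit false
set_option linter.unusedSectionVars false
set_option linter.style.haveILetI false

namespace CfsgLib.ReeTori

open Matrix

section general

variable {K : Type*} [Field K] {L : Type*} [Field L] [Algebra K L] {n : ℕ} (b : Module.Basis (Fin n) K L)

local notation "M" => Matrix (Fin n) (Fin n) K
local notation "Lm" => Algebra.leftMulMatrix b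

/-- The commutant of a field is the field. -/
theorem eq_leftMul_of_commute {l : L} (hl : Algebra.adjoin K {l} = ⊤) {A : M} (hA : Commute A (Lm l)) :
    ∃ z : L, A = Lm z := by
  have hall : ∀ y : L, Commute A (Lm y) := by
    intro y
    have hy : y ∈ Algebra.adjoin K ({l} : Set L) := by rw [hl]; trivial
    induction hy using Algebra.adjoin_induction with
    | mem x hx => rw [Set.mem_singleton_iff.mp hx]; exact hA
    | algebraMap r => rw [AlgHom.commutes]; exact Algebra.commute_algebraMap_right r A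
    | add x y _ _ hx hy => rw [map_add]; exact hx.add_right hy
    | mul x y _ _ hx hy => rw [map_mul]; exact hx.mul_right hy
  obtain ⟨z, hz⟩ : ∃ z : L, (b.repr z : Fin n → K) = A *ᵥ (b.repr 1 : Fin n → K) :=
    ⟨b.equivFun.symm (A *ᵥ (b.repr 1 : Fin n → K)), by rw [← Module.Basis.equivFun_apply, LinearEquiv.apply_symm_apply]⟩
  refine ⟨z, Matrix.ext_of_mulVec_single fun i => ?_⟩
  obtain ⟨y, hy⟩ : ∃ y : L, (b.repr y : Fin n → K) = Pi.single i 1 :=
    ⟨b.equivFun.symm (Pi.single i 1), by rw [← Module.Basis.equivFun_apply, LinearEquiv.apply_symm_apply]⟩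
  rw [← hy]
  have h1 : (b.repr y : Fin n → K) = Lm y *ᵥ (b.repr 1 : Fin n → K) := by
    rw [Algebra.leftMulMatrix_mulVec_repr, mul_one]
  conv_lhs => rw [h1, Matrix.mulVec_mulVec, (hall y).eq, ← Matrix.mulVec_mulVec, ← hz,
    Algebra.leftMulMatrix_mulVec_repr, mul_comm]
  rw [Algebra.leftMulMatrix_mulVec_repr]

/-- Intertwined elements have the same minimal polynomial. -/
theorem minpoly_eq_of_intertwine [FiniteDimensional K L] {l l' : L} {A : M} (hA : IsUnit A)
    (h : A * Lm l = Lm l' * A) : minpoly K l' = minpoly K l := by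
  have key : ∀ f : Polynomial K, A * Lm (Polynomial.aeval l f) = Lm (Polynomial.aeval l' f) * A := by
    intro f
    induction f using Polynomial.induction_on' with
    | add f g hf hg => simp only [map_add, Matrix.mul_add, Matrix.add_mul, hf, hg]
    | monomial k r =>
      rw [Polynomial.aeval_monomial, Polynomial.aeval_monomial, map_mul, map_mul, AlgHom.commutes, map_pow, map_pow,
        ← mul_assoc, ← (Algebra.commutes r A), mul_assoc, mul_assoc]
      congr 1
      exact (SemiconjBy.pow_right (show SemiconjBy A (Lm l) (Lm l') from h) k).eq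
  have h0 : Polynomial.aeval l' (minpoly K l) = 0 := by
    have h1 := key (minpoly K l)
    rw [minpoly.aeval, map_zero, mul_zero] at h1
    refine Algebra.leftMulMatrix_injective b ?_
    rw [map_zero]
    exact hA.mul_left_eq_zero.mp h1.symm
  exact (minpoly.eq_of_irreducible_of_monic (minpoly.irreducible (Algebra.IsIntegral.isIntegral l)) h0
    (minpoly.monic (Algebra.IsIntegral.isIntegral l))).symm

end general

section seven

variable (K : Type*) [Field K] [Fintype K] [CharP K 3] [Fact (Nat.Prime 3)]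

local notation "L" => FiniteField.Extension K 3 6
local notation "q" => Fintype.card K
local notation "GL7" => GL (Fin 7) K

/-- The index splitting. -/
abbrev e7 : Fin 6 ⊕ Fin 1 ≃ Fin 7 := finSumFinEquiv

/-- A basis of the sextic extension. -/
noncomputable def b6 : Module.Basis (Fin 6) K L :=
  Module.finBasisOfFinrankEq K L (FiniteField.finrank_extension K 3 6)

/-- The torus of the sextic extension. -/
noncomputable def psiT : Lˣ × Kˣ →* GL7 :=
  MonoidHom.toHomUnits
    { toFun := fun u => Matrix.reindexAlgEquiv K K e7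
        (Matrix.fromBlocks (Algebra.leftMulMatrix (b6 K) (u.1 : L)) 0 0 ((u.2 : K) • 1))
      map_one' := by
        rw [Prod.fst_one, Prod.snd_one, Units.val_one, Units.val_one, map_one, one_smul, Matrix.fromBlocks_one, map_one]
      map_mul' := fun u v => by
        rw [← map_mul, Matrix.fromBlocks_multiply, Prod.fst_mul, Prod.snd_mul, Units.val_mul, Units.val_mul, map_mul]
        congr 1
        simp [smul_smul, mul_comm] }

theorem psiT_val (u : Lˣ × Kˣ) : (psiT K u : Matrix (Fin 7) (Fin 7) K) = Matrix.reindexAlgEquiv K K e7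
    (Matrix.fromBlocks (Algebra.leftMulMatrix (b6 K) (u.1 : L)) 0 0 ((u.2 : K) • 1)) := rfl

theorem psiT_injective : Function.Injective (psiT K) := by
  intro u v h
  have h1 := congrArg (fun g : GL7 => (g : Matrix (Fin 7) (Fin 7) K)) h
  simp only [psiT_val] at h1
  obtain ⟨h2, -, -, h3⟩ := Matrix.fromBlocks_inj.mp ((Matrix.reindexAlgEquiv K K e7).injective h1)
  refine Prod.ext (Units.ext (Algebra.leftMulMatrix_injective _ h2)) (Units.ext ?_)
  simpa using congrFun (congrFun h3 0) 0

variable {K}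

theorem adjoin_eq_top {p : ℕ} [Fact p.Prime] (h : p ∣ q ^ 3 + 1) (h1 : ¬ p ∣ q + 1) (h2 : p ≠ 2) {l : Lˣ}
    (hl : orderOf l = p) : Algebra.adjoin K {(l : L)} = ⊤ := by
  classical
  have hq := Fintype.one_lt_card (α := K)
  have hint : IsIntegral K (l : L) := Algebra.IsIntegral.isIntegral _
  rw [← IntermediateField.adjoin_simple_toSubalgebra_of_isAlgebraic hint.isAlgebraic]
  suffices hE : IntermediateField.adjoin K {(l : L)} = ⊤ by rw [hE]; rfl
  obtain ⟨E, hE⟩ : ∃ E, E = IntermediateField.adjoin K {(l : L)} := ⟨_, rfl⟩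
  rw [← hE]
  have hd : Module.finrank K E ∣ 6 := by
    have := Module.finrank_mul_finrank K E L
    rw [FiniteField.finrank_extension] at this
    exact Dvd.intro _ this
  have hle : Module.finrank K E ≤ 6 := Nat.le_of_dvd (by norm_num) hd
  haveI := Fintype.ofFinite E
  have hmem : (l : L) ∈ E := hE ▸ IntermediateField.mem_adjoin_simple_self K (l : L)
  have hpow : (l : L) ^ (q ^ Module.finrank K E - 1) = 1 := by
    have h3 := FiniteField.pow_card_sub_one_eq_one (⟨(l : L), hmem⟩ : E) (fun e => l.ne_zero (congrArg Subtype.val e))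
    rw [← Nat.card_eq_fintype_card, Module.natCard_eq_pow_finrank (K := K), Nat.card_eq_fintype_card] at h3
    exact congrArg Subtype.val h3
  have hdvd : p ∣ q ^ Module.finrank K E - 1 := hl ▸ orderOf_dvd_of_pow_eq_one (Units.ext (by
    rw [Units.val_pow_eq_pow_val, hpow, Units.val_one]))
  have hz := (ZMod.natCast_eq_zero_iff _ _).mpr hdvd
  rw [Nat.cast_sub (Nat.one_le_pow _ _ (by omega)), sub_eq_zero] at hz
  push_cast at hz
  have h3 : (q : ZMod p) ^ 3 = -1 := by
    have := (ZMod.natCast_eq_zero_iff _ _).mpr h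
    push_cast at this
    linear_combination this
  have hq1 : (q : ZMod p) ≠ -1 := fun e => h1 ((ZMod.natCast_eq_zero_iff _ _).mp (by push_cast; rw [e, neg_add_cancel]))
  have hne : (-1 : ZMod p) ≠ 1 := by
    haveI : Fact (2 < p) := ⟨by have := (Fact.out : p.Prime).two_le; omega⟩
    exact ZMod.neg_one_ne_one
  have h6 : Module.finrank K E = 6 := by
    have hpos : 0 < Module.finrank K E := Module.finrank_pos
    interval_cases hd' : Module.finrank K E
    · rw [pow_one] at hz; rw [hz, one_pow] at h3; exact absurd h3.symm hne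
    · exfalso
      refine hq1 ?_
      calc (q : ZMod p) = (q : ZMod p) ^ 3 := by rw [pow_succ, hz, one_mul]
        _ = -1 := h3
    · rw [hz] at h3; exact absurd h3.symm hne
    · exact absurd hd (by norm_num)
    · exact absurd hd (by norm_num)
    · rfl
  exact IntermediateField.eq_of_le_of_finrank_eq le_top (by
    rw [h6, IntermediateField.finrank_top', FiniteField.finrank_extension])

/-- Elements of order `p` lie in the torus up to conjugacy. -/
theorem exists_conj_torus {p : ℕ} [hp : Fact p.Prime] (h : p ∣ q ^ 3 + 1) (h1 : ¬ p ∣ q + 1) (h2 : p ≠ 2)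
    {x : GL7} (hx : orderOf x = p) : ∃ (g : GL7) (l : Lˣ), orderOf l = p ∧ x = g * psiT K (l, 1) * g⁻¹ := by
  classical
  haveI : Finite GL7 := inferInstance
  obtain ⟨u, hu⟩ := IsCyclic.exists_ofOrder_eq_natCard (α := Lˣ)
  let φ : Lˣ →* GL7 := (psiT K).comp (MonoidHom.inl _ _)
  have hφ : Function.Injective φ := (psiT_injective K).comp (fun a c e => congrArg Prod.fst e)
  have hf : (Nat.card GL7).factorization p = (Nat.card Lˣ).factorization p := by
    rw [Nat.card_units, FiniteField.natCard_extension, Matrix.card_GL_field, Nat.card_eq_fintype_card (α := K),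
      CfsgLib.ReeSylowCyclic.fact_sub_one_six Fintype.one_lt_card h h1 h2]
  obtain ⟨S, hS⟩ := Sylow.exists_subgroup_card_pow_prime (G := φ.range) p
    (n := (Nat.card GL7).factorization p) (by
      rw [Nat.card_congr (MonoidHom.ofInjective hφ).toEquiv.symm, hf]
      exact Nat.ordProj_dvd _ _)
  let S0 : Sylow p GL7 := Sylow.ofCard (S.map φ.range.subtype)
    (by rw [Subgroup.card_map_of_injective φ.range.subtype_injective, hS])
  obtain ⟨P, hP⟩ := (IsPGroup.of_card (n := 1) (by rw [Nat.card_zpowers, hx, pow_one]) :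
    IsPGroup p (Subgroup.zpowers x)).exists_le_sylow
  obtain ⟨g, hg⟩ := MulAction.exists_smul_eq GL7 S0 P
  have hxP : x ∈ (P : Subgroup GL7) := hP (Subgroup.mem_zpowers x)
  rw [← hg, Sylow.coe_subgroup_smul, Sylow.coe_ofCard, Subgroup.mem_pointwise_smul_iff_inv_smul_mem, ← map_inv,
    MulAut.smul_def, MulAut.conj_apply, inv_inv] at hxP
  obtain ⟨⟨y, l, hl⟩, -, hy⟩ := Subgroup.mem_map.mp hxP
  have hy' : φ l = g⁻¹ * x * g := hl.trans hy
  refine ⟨g, l, ?_, ?_⟩
  · rw [← orderOf_injective φ hφ, hy', show g⁻¹ * x * g = MulAut.conj g⁻¹ x by simp, MulEquiv.orderOf_eq, hx]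
  · rw [show psiT K (l, 1) = φ l from rfl, hy']
    group

/-- An element conjugating a torus element to another is block diagonal. -/
theorem intertwine {p : ℕ} [Fact p.Prime] (h : p ∣ q ^ 3 + 1) (h1 : ¬ p ∣ q + 1) (h2 : p ≠ 2) {l : Lˣ}
    (hl : orderOf l = p) {l' : Lˣ} (hl' : l' ≠ 1) {y : GL7} (hy : y * psiT K (l, 1) = psiT K (l', 1) * y) :
    minpoly K (l' : L) = minpoly K (l : L) ∧ (l' = l → ∃ u, y = psiT K u) := by
  classical
  obtain ⟨N, hN⟩ : ∃ N, N = (Matrix.reindexAlgEquiv K K e7).symm (y : Matrix (Fin 7) (Fin 7) K) := ⟨_, rfl⟩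
  have hNy : (y : Matrix (Fin 7) (Fin 7) K) = Matrix.reindexAlgEquiv K K e7 N := by
    rw [hN, AlgEquiv.apply_symm_apply]
  have h3 := congrArg (fun g : GL7 => (g : Matrix (Fin 7) (Fin 7) K)) hy
  simp only [Units.val_mul, psiT_val, hNy, ← map_mul, Units.val_one, one_smul] at h3
  have h4 := (Matrix.reindexAlgEquiv K K e7).injective h3
  rw [← Matrix.fromBlocks_toBlocks N, Matrix.fromBlocks_multiply, Matrix.fromBlocks_multiply] at h4
  obtain ⟨hA, hB, hC, -⟩ := Matrix.fromBlocks_inj.mp h4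
  simp only [Matrix.mul_zero, add_zero, Matrix.zero_mul, zero_add, Matrix.mul_one, Matrix.one_mul] at hA hB hC
  have hne : ∀ w : Lˣ, w ≠ 1 → IsUnit (Algebra.leftMulMatrix (b6 K) (w : L) - 1) := by
    intro w hw
    rw [← map_one (Algebra.leftMulMatrix (b6 K)), ← map_sub]
    exact (IsUnit.mk0 _ (sub_ne_zero.mpr fun e => hw (Units.ext e))).map _
  have hl1 : l ≠ 1 := fun e => by
    rw [e, orderOf_one] at hl
    exact (Fact.out : p.Prime).ne_one hl.symm
  have hB0 : N.toBlocks₁₂ = 0 := by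
    have h5 : (Algebra.leftMulMatrix (b6 K) (l' : L) - 1) * N.toBlocks₁₂ = 0 := by
      rw [Matrix.sub_mul, Matrix.one_mul, ← hB, sub_self]
    obtain ⟨w, hw⟩ := hne l' hl'
    calc N.toBlocks₁₂ = (w⁻¹ : (Matrix (Fin 6) (Fin 6) K)ˣ).1 * ((w : Matrix (Fin 6) (Fin 6) K) * N.toBlocks₁₂) := by
          rw [← Matrix.mul_assoc, Units.inv_mul, Matrix.one_mul]
      _ = 0 := by rw [hw, h5, Matrix.mul_zero]
  have hC0 : N.toBlocks₂₁ = 0 := by
    have h5 : N.toBlocks₂₁ * (Algebra.leftMulMatrix (b6 K) (l : L) - 1) = 0 := by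
      rw [Matrix.mul_sub, Matrix.mul_one, hC, sub_self]
    obtain ⟨w, hw⟩ := hne l hl1
    calc N.toBlocks₂₁ = N.toBlocks₂₁ * (w : Matrix (Fin 6) (Fin 6) K) * (w⁻¹ : (Matrix (Fin 6) (Fin 6) K)ˣ).1 := by
          rw [Matrix.mul_assoc, Units.mul_inv, Matrix.mul_one]
      _ = 0 := by rw [hw, h5, Matrix.zero_mul]
  have hdet : N.det = (N.toBlocks₁₁).det * (N.toBlocks₂₂).det := by
    conv_lhs => rw [← Matrix.fromBlocks_toBlocks N, hB0]
    rw [Matrix.det_fromBlocks_zero₁₂]
  have hNu : IsUnit N.det := by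
    rw [hN, ← Matrix.isUnit_iff_isUnit_det]
    exact (Units.isUnit y).map _
  rw [hdet, IsUnit.mul_iff] at hNu
  refine ⟨minpoly_eq_of_intertwine (b6 K) ((Matrix.isUnit_iff_isUnit_det _).mpr hNu.1) hA, ?_⟩
  rintro rfl
  obtain ⟨z, hz⟩ := eq_leftMul_of_commute (b6 K) (adjoin_eq_top h h1 h2 hl) (show Commute _ _ from hA)
  have hD : N.toBlocks₂₂ = N.toBlocks₂₂ 0 0 • (1 : Matrix (Fin 1) (Fin 1) K) := by
    ext i j
    fin_cases i; fin_cases j; simp
  have hz0 : z ≠ 0 := fun e => by
    have h6 := hNu.1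
    rw [hz, e, map_zero, Matrix.det_zero] at h6
    exact not_isUnit_zero h6
  have hd0 : N.toBlocks₂₂ 0 0 ≠ 0 := fun e => by
    have h6 := hNu.2
    rw [hD, e, zero_smul, Matrix.det_zero] at h6
    exact not_isUnit_zero h6
  refine ⟨(Units.mk0 z hz0, Units.mk0 _ hd0), Units.ext ?_⟩
  rw [psiT_val, hNy, Units.val_mk0, Units.val_mk0, ← hz, ← hD]
  congr 1
  conv_lhs => rw [← Matrix.fromBlocks_toBlocks N, hB0, hC0]

/-- The centraliser of an element of order `p`. -/
theorem centralizer_seven {p : ℕ} [hp : Fact p.Prime] (h : p ∣ q ^ 3 + 1) (h1 : ¬ p ∣ q + 1) (h2 : p ≠ 2)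
    {x : GL7} (hx : orderOf x = p) :
    (∀ y z : GL7, Commute y x → Commute z x → Commute y z) ∧
    (∀ A : Subgroup GL7, (∀ y ∈ A, Commute y x) → (Nat.card A).Coprime (q - 1) → IsCyclic A) ∧
    (∀ (y : GL7) (k : ℕ), y * x * y⁻¹ = x ^ k → ∃ j : ℕ, (k : ZMod p) = (q : ZMod p) ^ j) := by
  classical
  obtain ⟨g, l, hl, rfl⟩ := exists_conj_torus h h1 h2 hx
  have hl1 : l ≠ 1 := fun e => by
    rw [e, orderOf_one] at hl
    exact hp.out.ne_one hl.symm
  have hcent : ∀ y : GL7, Commute y (g * psiT K (l, 1) * g⁻¹) → ∃ u, y = g * psiT K u * g⁻¹ := by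
    intro y hy
    have h3 : g⁻¹ * y * g * psiT K (l, 1) = psiT K (l, 1) * (g⁻¹ * y * g) := by
      calc g⁻¹ * y * g * psiT K (l, 1) = g⁻¹ * (y * (g * psiT K (l, 1) * g⁻¹)) * g := by group
        _ = g⁻¹ * ((g * psiT K (l, 1) * g⁻¹) * y) * g := by rw [hy.eq]
        _ = _ := by group
    obtain ⟨u, hu⟩ := (intertwine h h1 h2 hl hl1 h3).2 rfl
    exact ⟨u, by rw [← hu]; group⟩
  let f : Lˣ × Kˣ →* GL7 := (MulAut.conj g).toMonoidHom.comp (psiT K)
  have hf : Function.Injective f := (MulAut.conj g).injective.comp (psiT_injective K)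
  refine ⟨?_, ?_, ?_⟩
  · intro y z hy hz
    obtain ⟨u, rfl⟩ := hcent y hy
    obtain ⟨v, rfl⟩ := hcent z hz
    exact (Commute.all u v).map f
  · intro A hA hcop
    have hle : A ≤ f.range := fun y hy => by
      obtain ⟨u, hu⟩ := hcent y (hA y hy)
      exact ⟨u, hu.symm⟩
    let A' := A.comap f
    have hA' : A'.map f = A := Subgroup.map_comap_eq_self hle
    have hcard : Nat.card A' = Nat.card A := by
      rw [← hA', Subgroup.card_map_of_injective hf]
    have hfst : Function.Injective ((MonoidHom.fst Lˣ Kˣ).comp A'.subtype) := by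
      rw [injective_iff_map_eq_one]
      rintro ⟨⟨a, c⟩, hac⟩ (rfl : a = 1)
      refine Subtype.ext (Prod.ext rfl ?_)
      have hd : orderOf (((1 : Lˣ), c)) ∣ Nat.card A' := Subgroup.orderOf_dvd_natCard _ hac
      rw [Prod.orderOf, orderOf_one, Nat.lcm_one_left, hcard] at hd
      have hd2 : orderOf c ∣ q - 1 := by
        rw [← Nat.card_eq_fintype_card, ← Nat.card_units]
        exact orderOf_dvd_natCard c
      exact orderOf_eq_one_iff.mp (Nat.dvd_one.mp (hcop ▸ Nat.dvd_gcd hd hd2))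
    haveI : IsCyclic A' := isCyclic_of_injective _ hfst
    rw [← hA']
    exact isCyclic_of_surjective _ (f.subgroupMap_surjective A')
  · intro y k hy
    have hk : (l ^ k : Lˣ) ≠ 1 := by
      intro e
      have h3 : y * (g * psiT K (l, 1) * g⁻¹) * y⁻¹ = 1 := by
        rw [hy, conj_pow, ← map_pow, Prod.pow_mk, one_pow, e, Prod.mk_one_one, map_one, mul_one, mul_inv_cancel]
      rw [mul_inv_eq_one, mul_eq_left, mul_inv_eq_one, mul_eq_left] at h3
      exact hl1 (congrArg Prod.fst (psiT_injective K (h3.trans (map_one _).symm)))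
    have h3 : g⁻¹ * y * g * psiT K (l, 1) = psiT K (l ^ k, 1) * (g⁻¹ * y * g) := by
      calc g⁻¹ * y * g * psiT K (l, 1) = g⁻¹ * (y * (g * psiT K (l, 1) * g⁻¹) * y⁻¹) * y * g := by group
        _ = g⁻¹ * ((g * psiT K (l, 1) * g⁻¹) ^ k) * y * g := by rw [hy]
        _ = _ := by rw [conj_pow, ← map_pow, Prod.pow_mk, one_pow]; group
    have hmp := (intertwine h h1 h2 hl hk h3).1
    obtain ⟨σ, hσ⟩ := Normal.minpoly_eq_iff_mem_orbit (E := L).mp hmp
    obtain ⟨⟨j, hj⟩, rfl⟩ := (FiniteField.bijective_frobeniusAlgEquivOfAlgebraic_pow K L).2 σ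
    refine ⟨j, ?_⟩
    have h4 : l ^ (q ^ j) = l ^ k := Units.ext (by
      rw [Units.val_pow_eq_pow_val, ← hσ]
      show (l : L) ^ q ^ j = (FiniteField.frobeniusAlgEquivOfAlgebraic K L ^ j) (l : L)
      rw [AlgEquiv.coe_pow, FiniteField.coe_frobeniusAlgEquivOfAlgebraic_iterate])
    rw [pow_eq_pow_iff_modEq, hl, ← ZMod.natCast_eq_natCast_iff] at h4
    rw [← h4]
    push_cast
    rfl

end seven

end CfsgLib.ReeTori
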