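import Mathlib
import Cfsg.Agent.Lib.ReeTori.Count
import Cfsg.Agent.Lib.ReeTori.GLSeven
import Cfsg.Agent.Lib.Chev.Twist.ReeAut
import Cfsg.Agent.Lib.Chev.Twist.ReeCent
import Cfsg.Agent.Lib.Chev.Twist.SimpleG2

/-!
The small Ree group `²G₂(q)` carries the abstract data; consequences.
-/

set_option autoImplicit false
set_option linter.unusedSectionVars false
set_option linter.style.haveILetI false
set_option linter.deprecated false
set_option linter.unusedVariables false
set_option linter.dupNamespace false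
set_option maxRecDepth 100000

namespace CfsgLib.ReeTori

open CfsgLib.DicksonFull

section invert

variable {F : Type*} [Field F] [Fintype F] {m : ℕ} [Fact (Nat.Prime 3)] [CharP F 3]

local notation "PSL" => Matrix.ProjectiveSpecialLinearGroup (Fin 2) F
local notation "q" => Fintype.card F

/-- An element of the centraliser of an involution normalising a split torus from outside inverts it. -/
theorem inverts (D : QData F m) {G : Type*} [Group G] [Finite G] (a : G) (ha : a ≠ 1) (ha2 : a * a = 1)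
    (ι : PSL →* G) (hι : Function.Injective ι) (hc : ∀ z, Commute a (ι z))
    (hcent : ∀ y : G, Commute y a → ∃ z, y = ι z ∨ y = a * ι z) {H : Subgroup G} [IsCyclic H]
    (hH : Nat.card H = q - 1) (haH : a ∈ H) (hnot : ∀ z, ι z ≠ a) {n : G} (hn : n ∉ H) (hna : Commute n a)
    (hnorm : ∀ h ∈ H, n * h * n⁻¹ ∈ H) : ∀ h ∈ H, n * h * n⁻¹ = h⁻¹ := by
  obtain ⟨h8, h27⟩ := D.mod
  have hHa : ∀ h ∈ H, Commute h a := fun h hh =>
    congrArg Subtype.val ((IsCyclic.commGroup (α := H)).mul_comm ⟨h, hh⟩ ⟨a, haH⟩)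
  let W := H.comap ι
  have hW : 2 * Nat.card W = q - 1 := by
    rw [← hH]
    classical
    let f : Bool × W → H := fun s => ⟨if s.1 then a * ι s.2 else ι s.2, by
      split_ifs
      · exact mul_mem haH s.2.2
      · exact s.2.2⟩
    have hf : Function.Bijective f := by
      constructor
      · rintro ⟨i, v⟩ ⟨j, w⟩ h
        have h' := congrArg Subtype.val h
        cases i <;> cases j <;> simp only [f, if_true, Bool.false_eq_true, if_false] at h'
        · exact Prod.ext rfl (Subtype.ext (hι h'))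
        · exact absurd (by rw [map_mul, map_inv, h', mul_inv_cancel_right] : ι (v.1 * w.1⁻¹) = a) (hnot _)
        · exact absurd (by rw [map_mul, map_inv, ← h', mul_inv_cancel_right] : ι (w.1 * v.1⁻¹) = a) (hnot _)
        · exact Prod.ext rfl (Subtype.ext (hι (mul_left_cancel h')))
      · rintro ⟨h, hh⟩
        obtain ⟨z, hz | hz⟩ := hcent h (hHa h hh)
        · exact ⟨(false, ⟨z, show ι z ∈ H from hz ▸ hh⟩), Subtype.ext (by simp [f, hz])⟩
        · have hzH : ι z ∈ H := by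
            have := mul_mem (inv_mem haH) hh
            rwa [hz, inv_mul_cancel_left] at this
          exact ⟨(true, ⟨z, hzH⟩), Subtype.ext (by simp [f, hz])⟩
    rw [← Nat.card_congr (Equiv.ofBijective f hf), Nat.card_prod, Nat.card_eq_fintype_card (α := Bool), Fintype.card_bool]
  haveI : IsCyclic W := isCyclic_of_injective (ι.subgroupComap H) (fun x y e => Subtype.ext (hι (congrArg Subtype.val e)))
  obtain ⟨⟨v, hv⟩, hvo⟩ := IsCyclic.exists_ofOrder_eq_natCard (α := W)
  rw [Subgroup.orderOf_mk] at hvo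
  have hv1 : v ≠ 1 := fun e => by rw [e, orderOf_one] at hvo; omega
  have hs : SS 3 v := ⟨hv1, fun h => by
    rw [hvo] at h
    have h3 : 3 ∣ q := by rw [D.hq]; exact dvd_pow_self 3 (by omega)
    omega⟩
  have hle : W ≤ (psl (F := F) 3).T v := by
    intro w hw
    by_contra hwT
    have hc' : Commute w v := congrArg Subtype.val ((IsCyclic.commGroup (α := W)).mul_comm ⟨w, hw⟩ ⟨v, hv⟩)
    have h1 := ((psl (F := F) 3).T_norm v w hs (by rw [hc'.eq, mul_inv_cancel_right]; exact (psl 3).mem_T v hs) hwT).1 v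
      ((psl 3).mem_T v hs)
    rw [hc'.eq, mul_inv_cancel_right] at h1
    have h2 : orderOf v ∣ 2 := orderOf_dvd_of_pow_eq_one (by rw [pow_two]; nth_rw 2 [h1]; exact mul_inv_cancel v)
    have := Nat.le_of_dvd (by norm_num) h2
    omega
  have hT : W = (psl (F := F) 3).T v := by
    refine Subgroup.eq_of_le_of_card_ge hle ?_
    have hd := Subgroup.card_dvd_of_le hle
    have htor := card_tor_dvd 3 (H := (⊤ : Subgroup PSL)) hs
    rw [show tor (psl (F := F) 3) ⊤ v = (psl (F := F) 3).T v from top_inf_eq _, D.gcd_two] at htor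
    rcases htor with h | h
    · exfalso
      have h' := Nat.dvd_sub (hd.trans h) (dvd_refl (Nat.card W))
      rw [show (q + 1) / 2 - Nat.card W = 1 by omega] at h'
      have := Nat.dvd_one.mp h'
      omega
    · exact (Nat.le_of_dvd (by omega) h).trans (by omega)
  obtain ⟨z, hz⟩ := hcent n hna
  have key : ∀ w, n * ι w * n⁻¹ = ι (z * w * z⁻¹) := by
    intro w
    rw [map_mul, map_mul, map_inv]
    rcases hz with e | e <;> rw [e]
    rw [show a * ι z * ι w * (a * ι z)⁻¹ = a * (ι z * ι w * (ι z)⁻¹) * a⁻¹ by group, ← map_inv, ← map_mul, ← map_mul,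
      (hc _).eq, mul_inv_cancel_right]
  have hzT : z ∉ (psl (F := F) 3).T v := by
    rw [← hT]
    intro h
    rcases hz with e | e
    · exact hn (e ▸ h)
    · exact hn (e ▸ mul_mem haH h)
  have hzv : z * v * z⁻¹ ∈ (psl (F := F) 3).T v := by
    rw [← hT]
    show ι (z * v * z⁻¹) ∈ H
    rw [← key]
    exact hnorm _ hv
  have hinv := ((psl (F := F) 3).T_norm v z hs hzv hzT).1
  intro h hh
  obtain ⟨w, hw⟩ := hcent h (hHa h hh)
  have hwH : ι w ∈ H := by
    rcases hw with e | e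
    · exact e ▸ hh
    · have := mul_mem (inv_mem haH) hh
      rwa [e, inv_mul_cancel_left] at this
  have h1 : n * ι w * n⁻¹ = (ι w)⁻¹ := by rw [key, hinv w (hT ▸ hwH), map_inv]
  rcases hw with e | e <;> rw [e]
  · exact h1
  · rw [show n * (a * ι w) * n⁻¹ = (n * a * n⁻¹) * (n * ι w * n⁻¹) by group, hna.eq, mul_inv_cancel_right, h1,
      _root_.mul_inv_rev, inv_eq_of_mul_eq_one_left ha2]
    exact ((hc w).inv_right).eq

end invert

open Cfsg.Lie CfsgLib.Chev CfsgLib.Chev.T2G2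

variable {K : Type*} [Field K] [Fintype K] {m : ℕ}

theorem exists_ree (hm : 1 ≤ m) (hK : Fintype.card K = 3 ^ (2 * m + 1)) :
    Nonempty (Ree ↥(twistedG2 K (3 ^ m)) K m) := by
  classical
  haveI := charP_three hK
  haveI := Fact.mk Nat.prime_three
  haveI := Fact.mk Nat.prime_two
  haveI : Finite ↥(twistedG2 K (3 ^ m)) := Subgroup.instFiniteSubtypeMem _
  have D : QData K m := ⟨hm, hK⟩
  obtain ⟨h8, h27⟩ := D.mod
  -- the involution and its centraliser
  let a : RG K m := tg hK (-1)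
  have haval : (a : GL chevG2.Idx K) = inv0 K m := rfl
  have ha1 : a ≠ 1 := fun e => ne_inv0_one hK (congrArg Subtype.val e)
  have ha2 : a * a = 1 := Subtype.ext inv0_sq
  let ψ : Matrix.SpecialLinearGroup (Fin 2) K →* RG K m :=
    MonoidHom.mk' (fun A => ⟨psi hK A, psi_mem hK A⟩) fun A B => Subtype.ext (map_mul _ A B)
  have hψ : Subgroup.center (Matrix.SpecialLinearGroup (Fin 2) K) ≤ ψ.ker := by
    intro A hA
    rw [MonoidHom.mem_ker]
    refine Subtype.ext ?_
    show psi hK A = 1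
    rcases center_cases.mp hA with rfl | rfl
    · exact map_one _
    · exact psi_neg_one hK
  let ι : Matrix.ProjectiveSpecialLinearGroup (Fin 2) K →* RG K m := QuotientGroup.lift _ ψ hψ
  have hιmk : ∀ A, ι (QuotientGroup.mk A) = ψ A := fun A => rfl
  have hι : Function.Injective ι := by
    rw [injective_iff_map_eq_one]
    intro z
    induction z using QuotientGroup.induction_on with
    | _ A =>
    intro hz
    rw [hιmk] at hz
    exact (QuotientGroup.eq_one_iff A).mpr (center_cases.mpr (psi_cases hK (Or.inl (congrArg Subtype.val hz))))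
  have hnot : ∀ z, ι z ≠ a := by
    intro z
    induction z using QuotientGroup.induction_on with
    | _ A =>
    intro hz
    rw [hιmk] at hz
    have h : psi hK A = inv0 K m := congrArg Subtype.val hz
    rcases psi_cases hK (Or.inr h) with rfl | rfl
    · rw [map_one] at h; exact ne_inv0_one hK h.symm
    · rw [psi_neg_one] at h; exact ne_inv0_one hK h.symm
  have hcomm : ∀ z, Commute a (ι z) := by
    intro z
    induction z using QuotientGroup.induction_on with
    | _ A =>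
    rw [hιmk]
    exact Subtype.ext (inv0_commute_psi hK A).eq
  have hcent : ∀ y : RG K m, Commute y a → ∃ z, y = ι z ∨ y = a * ι z := by
    intro y hy
    have hy' : (y : GL chevG2.Idx K) * inv0 K m = inv0 K m * y := congrArg Subtype.val hy.eq
    obtain ⟨A, hA⟩ := cent_gen hK y.2 (by rw [← hy', mul_inv_cancel_right])
    refine ⟨QuotientGroup.mk A, ?_⟩
    rw [hιmk]
    rcases hA with h | h
    · exact Or.inl (Subtype.ext h)
    · exact Or.inr (Subtype.ext h)
  -- the torus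
  let t : Kˣ →* RG K m := MonoidHom.mk' (fun s => tg hK s) fun s u => Subtype.ext (th_mul s u)
  have htinj : Function.Injective t := fun s u e => th_injective (congrArg Subtype.val e)
  have ht1 : tg hK (1 : Kˣ) = 1 := Subtype.ext th_one
  haveI : IsCyclic t.range := isCyclic_of_surjective _ t.rangeRestrict_surjective
  have hH : Nat.card t.range = Fintype.card K - 1 := by
    rw [Nat.card_congr (MonoidHom.ofInjective htinj).toEquiv.symm, Nat.card_units, Nat.card_eq_fintype_card]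
  have haH : a ∈ t.range := ⟨-1, rfl⟩
  have hn0B : n0 hK ∉ Bsub K m := fun h => not_mem_B_w0 hK (mem_Bsub.mp h)
  have hn0 : n0 hK ∉ t.range := by rintro ⟨s, hs⟩; exact hn0B (hs ▸ tg_mem_Bsub hK s)
  have hnorm : ∀ h ∈ t.range, n0 hK * h * (n0 hK)⁻¹ ∈ t.range := by
    rintro _ ⟨s, rfl⟩
    obtain ⟨s', hs'⟩ := conj_n0_tg' hK s
    exact ⟨s', hs'.symm⟩
  have hn0a : Commute (n0 hK) a := by
    refine Subtype.ext ?_
    show w0 K * inv0 K m = inv0 K m * w0 K
    exact (mul_inv_eq_iff_eq_mul.mp (inv0_conj_w0 hK)).symm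
  have hinv := inverts D a ha1 ha2 ι hι hcomm hcent hH haH hnot hn0 hn0a hnorm
  have hn0i : (n0 hK)⁻¹ ∉ t.range := fun h => hn0 (by simpa using inv_mem h)
  have hsq : n0 hK * n0 hK ∈ t.range := by
    obtain ⟨φ, -, hφ⟩ := weyl hK
    let w : ↥(chevG2.monomialSubgroup K ⊓ twistedG2 K (3 ^ m)) := ⟨w0 K, Subgroup.mem_inf.mpr ⟨wN_N, wN_mem hK⟩⟩
    have h2 : ∀ z : Multiplicative (ZMod 2), z * z = 1 := mul_self_zmod_two
    have hk : w * w ∈ φ.ker := by rw [MonoidHom.mem_ker, map_mul, h2]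
    rw [hφ, Subgroup.mem_subgroupOf] at hk
    obtain ⟨s, hs⟩ := (mem_H_iff hK).mp hk
    exact ⟨s, Subtype.ext hs.symm⟩
  let N1 : Subgroup (RG K m) :=
    { carrier := {y | y ∈ t.range ∨ (n0 hK)⁻¹ * y ∈ t.range}
      one_mem' := Or.inl (one_mem _)
      mul_mem' := by
        have hnorm' : ∀ h ∈ t.range, (n0 hK)⁻¹ * h * n0 hK ∈ t.range := by
          rintro _ ⟨s, rfl⟩
          obtain ⟨s', hs'⟩ := conj_n0_tg hK s
          exact ⟨s', hs'.symm⟩
        rintro y z (hy | hy) (hz | hz)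
        · exact Or.inl (mul_mem hy hz)
        · right
          rw [show (n0 hK)⁻¹ * (y * z) = ((n0 hK)⁻¹ * y * n0 hK) * ((n0 hK)⁻¹ * z) by group]
          exact mul_mem (hnorm' y hy) hz
        · right; rw [← mul_assoc]; exact mul_mem hy hz
        · left
          rw [show y * z = (n0 hK * n0 hK) * ((n0 hK)⁻¹ * ((n0 hK)⁻¹ * y) * n0 hK) * ((n0 hK)⁻¹ * z) by group]
          exact mul_mem (mul_mem hsq (hnorm' _ hy)) hz
      inv_mem' := by
        rintro y (hy | hy)
        · exact Or.inl (inv_mem hy)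
        · right
          rw [show (n0 hK)⁻¹ * y⁻¹ = (n0 hK)⁻¹ * ((n0 hK)⁻¹ * y)⁻¹ * n0 hK * (n0 hK * n0 hK)⁻¹ by group]
          refine mul_mem ?_ (inv_mem hsq)
          obtain ⟨s, hs⟩ := inv_mem hy
          obtain ⟨s', hs'⟩ := conj_n0_tg hK s
          exact ⟨s', hs'.symm.trans (by rw [show tg hK s = ((n0 hK)⁻¹ * y)⁻¹ from hs])⟩ }
  have hN1 : Nat.card N1 = 2 * (Fintype.card K - 1) := by
    rw [← hH]
    let f : Bool × t.range → N1 := fun s => if s.1 then ⟨n0 hK * s.2, Or.inr (by rw [inv_mul_cancel_left]; exact s.2.2)⟩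
      else ⟨s.2, Or.inl s.2.2⟩
    have hf : Function.Bijective f := by
      constructor
      · rintro ⟨i, v⟩ ⟨j, w⟩ h
        have h' := congrArg Subtype.val h
        cases i <;> cases j <;> simp only [f, if_true, Bool.false_eq_true, if_false] at h'
        · exact Prod.ext rfl (Subtype.ext h')
        · exact absurd (by rw [show n0 hK = (v : RG K m) * (w : RG K m)⁻¹ by rw [h', mul_inv_cancel_right]]; exact mul_mem v.2 (inv_mem w.2)) hn0
        · exact absurd (by rw [show n0 hK = (w : RG K m) * (v : RG K m)⁻¹ by rw [← h', mul_inv_cancel_right]]; exact mul_mem w.2 (inv_mem v.2)) hn0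
        · exact Prod.ext rfl (Subtype.ext (mul_left_cancel h'))
      · rintro ⟨y, hy | hy⟩
        · exact ⟨(false, ⟨y, hy⟩), rfl⟩
        · exact ⟨(true, ⟨_, hy⟩), Subtype.ext (by simp [f])⟩
    rw [← Nat.card_congr (Equiv.ofBijective f hf), Nat.card_prod, Nat.card_eq_fintype_card (α := Bool), Fintype.card_bool]
  -- the unipotent subgroup
  have hUB : Subgroup.normalizer ((Us K m : Subgroup (RG K m)) : Set (RG K m)) = Bsub K m := by
    ext x
    rw [mem_Bsub_iff_norm hK, Subgroup.mem_normalizer_iff]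
  have hcU : Nat.card (Us K m) = Fintype.card K ^ 3 := by
    rw [Nat.card_congr (Subgroup.subgroupOfEquivOfLe inf_le_right).toEquiv, T2G2.card_U hK, hK]
  have hUH : ∀ {x : RG K m}, x ∈ Us K m → x ∈ t.range → x = 1 := by
    rintro _ hx ⟨s, rfl⟩
    exact Subtype.ext (CfsgLib.Chev.chevG2.eq_one_of_mem_U_of_mem_N (mem_Us.mp hx) (CfsgLib.Chev.Chev.H_le_N (th_mem_H hK s).1))
  have hBdec : ∀ x ∈ Bsub K m, ∃ u ∈ Us K m, ∃ s, x = u * tg hK s := by
    intro x hx
    obtain ⟨u, hu, y, hy, e⟩ := (tw hK).B_mem (mem_Bsub.mp hx) (le_fix hK x.2)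
    rw [← eq_fix hK] at hu hy
    obtain ⟨s, hs⟩ := (mem_H_iff hK).mp (Subgroup.mem_inf.mpr hy)
    exact ⟨⟨u, hu.2⟩, mem_Us.mpr hu.1, s, Subtype.ext (by rw [e, hs]; rfl)⟩
  have hUsB : ∀ {u : RG K m}, u ∈ Us K m → u ∈ Bsub K m := fun hu => mem_Bsub.mpr (Subgroup.mem_sup_left (mem_Us.mp hu))
  have hcB : Nat.card (Bsub K m) = Fintype.card K ^ 3 * (Fintype.card K - 1) := by
    rw [← hcU, ← Nat.card_eq_fintype_card (α := K), ← Nat.card_units, ← Nat.card_prod]
    refine (Nat.card_congr (Equiv.ofBijective (fun p : Us K m × Kˣ =>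
      (⟨p.1 * tg hK p.2, mul_mem (hUsB p.1.2) (tg_mem_Bsub hK p.2)⟩ : Bsub K m)) ⟨?_, ?_⟩)).symm
    · rintro ⟨u, s⟩ ⟨v, r⟩ e
      have e' : (u : RG K m) * tg hK s = v * tg hK r := congrArg Subtype.val e
      have h1 : (v : RG K m)⁻¹ * u = t r * (t s)⁻¹ := by
        show (v : RG K m)⁻¹ * u = tg hK r * (tg hK s)⁻¹
        rw [eq_mul_inv_iff_mul_eq, mul_assoc, e', inv_mul_cancel_left]
      have h2 : (v : RG K m)⁻¹ * u = 1 := hUH (mul_mem (inv_mem v.2) u.2)
        (h1 ▸ mul_mem ⟨r, rfl⟩ (inv_mem ⟨s, rfl⟩))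
      rw [h2] at h1
      exact Prod.ext (Subtype.ext (inv_mul_eq_one.mp h2).symm) (htinj (mul_inv_eq_one.mp h1.symm)).symm
    · rintro ⟨x, hx⟩
      obtain ⟨u, hu, s, e⟩ := hBdec x hx
      exact ⟨(⟨u, hu⟩, s), Subtype.ext e.symm⟩
  have hcom : ∀ (s : Kˣ) (u : RG K m), t s * t s ≠ 1 → u ∈ Us K m → Commute (t s) u → u = 1 := by
    intro s u hs hu hc
    by_contra hne
    have h2 := sq_one_of_commute hK (mem_Us.mp hu) (fun e => hne (Subtype.ext e)) (congrArg Subtype.val hc.eq)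
    refine hs ?_
    rw [← map_mul, ← pow_two, show s ^ 2 = s ^ (2 : ℤ) from (_root_.zpow_natCast s 2).symm, h2, map_one]
  have hnormB : ∀ {b u : RG K m}, b ∈ Bsub K m → u ∈ Us K m → b * u * b⁻¹ ∈ Us K m := fun hb hu =>
    ((mem_Bsub_iff_norm hK _).mp hb _).mp hu
  have hfix : ∀ (u : RG K m) (x x' : RG K m), u ∈ Us K m → x ∈ t.range → x * x ≠ 1 → x' ∈ t.range →
      u * x * u⁻¹ = x' → u = 1 := by
    rintro u _ x' hu ⟨s, rfl⟩ hx hx' e
    have hxB : t s ∈ Bsub K m := tg_mem_Bsub hK s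
    have h1 : x' * (t s)⁻¹ ∈ Us K m := by
      rw [← e, show u * t s * u⁻¹ * (t s)⁻¹ = u * (t s * u⁻¹ * (t s)⁻¹) by group]
      exact mul_mem hu (hnormB hxB (inv_mem hu))
    have h2 := hUH h1 (mul_mem hx' (inv_mem ⟨s, rfl⟩))
    rw [mul_inv_eq_one] at h2
    subst h2
    exact hcom s u hx hu (mul_inv_eq_iff_eq_mul.mp e).symm
  have hsplit : ∀ x ∈ t.range, x * x ≠ 1 → ∀ y : RG K m, y * x * y⁻¹ ∈ t.range → y ∈ N1 := by
    intro x hx hx2 y hy
    have hxB : x ∈ Bsub K m := by obtain ⟨s, rfl⟩ := hx; exact tg_mem_Bsub hK s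
    by_cases hyB : y ∈ Bsub K m
    · obtain ⟨u, hu, s, rfl⟩ := hBdec y hyB
      left
      have h1 : u * x * u⁻¹ = u * tg hK s * x * (u * tg hK s)⁻¹ := by
        obtain ⟨r, rfl⟩ := hx
        rw [show u * tg hK s * t r * (u * tg hK s)⁻¹ = u * (t s * t r * (t s)⁻¹) * u⁻¹ by
          show _ = u * (tg hK s * t r * (tg hK s)⁻¹) * u⁻¹
          group, ← map_mul, mul_comm s r, map_mul, mul_inv_cancel_right]
      rw [hfix u x _ hu hx hx2 hy h1, one_mul]
      exact ⟨s, rfl⟩
    · obtain ⟨b, hb, u, hu, e⟩ := bruhat_one hK y.2 (fun h => hyB (mem_Bsub.mpr h))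
      obtain ⟨b', hb', ebb⟩ : ∃ b' : RG K m, b' ∈ Bsub K m ∧ (b' : GL chevG2.Idx K) = b :=
        ⟨⟨b, hb.2⟩, mem_Bsub.mpr hb.1, rfl⟩
      obtain ⟨u', hu', euu⟩ : ∃ u' : RG K m, u' ∈ Us K m ∧ (u' : GL chevG2.Idx K) = u :=
        ⟨⟨u, hu.2⟩, mem_Us.mpr hu.1, rfl⟩
      have hy' : y = b' * n0 hK * u' := Subtype.ext (by
        rw [Subgroup.coe_mul, Subgroup.coe_mul, ebb, euu, e]; rfl)
      obtain ⟨v, hv, s, hbv⟩ := hBdec b' hb'
      have hu'' : u' * x * u'⁻¹ * x⁻¹ ∈ Us K m := by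
        rw [show u' * x * u'⁻¹ * x⁻¹ = u' * (x * u'⁻¹ * x⁻¹) by group]
        exact mul_mem hu' (hnormB hxB (inv_mem hu'))
      have hyT : y * x * y⁻¹ ∈ Bsub K m := by obtain ⟨r, hr⟩ := hy; exact hr ▸ tg_mem_Bsub hK r
      have h1 : n0 hK * (u' * x * u'⁻¹) * (n0 hK)⁻¹ = b'⁻¹ * (y * x * y⁻¹) * b' := by rw [hy']; group
      have h2 : n0 hK * (u' * x * u'⁻¹) * (n0 hK)⁻¹ ∈ Bsub K m := by
        rw [h1]; exact mul_mem (mul_mem (inv_mem hb') hyT) hb'
      have h3 : n0 hK * (u' * x * u'⁻¹ * x⁻¹) * (n0 hK)⁻¹ ∈ Bsub K m := by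
        have h4 : n0 hK * x * (n0 hK)⁻¹ ∈ Bsub K m := by
          obtain ⟨r, hr⟩ := hnorm x hx; exact hr ▸ tg_mem_Bsub hK r
        rw [show n0 hK * (u' * x * u'⁻¹ * x⁻¹) * (n0 hK)⁻¹ =
          n0 hK * (u' * x * u'⁻¹) * (n0 hK)⁻¹ * (n0 hK * x * (n0 hK)⁻¹)⁻¹ by group]
        exact mul_mem h2 (inv_mem h4)
      have h5 : u' * x * u'⁻¹ * x⁻¹ = 1 := by
        have h6 := eq_one_of_B_V (x := w0 K * ((u' * x * u'⁻¹ * x⁻¹ : RG K m) : GL chevG2.Idx K) * (w0 K)⁻¹)
          (mem_Bsub.mp h3) (w0_conj_neg (mem_Us.mp hu''))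
        rw [mul_inv_eq_one, mul_eq_left] at h6
        exact Subtype.ext h6
      have hu1 : u' = 1 := hfix u' x x hu' hx hx2 hx (mul_inv_eq_one.mp h5)
      subst hu1
      have h7 : v * (t s * (n0 hK * x * (n0 hK)⁻¹) * (t s)⁻¹) * v⁻¹ = y * x * y⁻¹ := by
        rw [hy', hbv]; show _ = _
        simp [mul_assoc, t]
      have hx0 : t s * (n0 hK * x * (n0 hK)⁻¹) * (t s)⁻¹ ∈ t.range :=
        mul_mem (mul_mem ⟨s, rfl⟩ (hnorm x hx)) (inv_mem ⟨s, rfl⟩)
      have hv1 := hfix v _ _ hv hx0 (fun e => hx2 ?_) hy h7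
      · right
        rw [hy', hbv, hv1, one_mul, mul_one]
        obtain ⟨s', hs'⟩ := conj_n0_tg hK s
        exact ⟨s', by show tg hK s' = _; rw [← hs']; group⟩
      · have e' : (t s * n0 hK) * (x * x) * (t s * n0 hK)⁻¹ = 1 := by rw [← e]; group
        rwa [mul_inv_eq_one, mul_eq_left] at e'
  have h9 : ∀ u ∈ Us K m, u ^ 9 = 1 := by
    intro u hu
    obtain ⟨x, e, f, rfl⟩ := (mem_Us_iff hK).mp hu
    rw [show (9 : ℕ) = 3 * 3 by rfl, pow_mul, wg_cube, wg_cube, ← wg_zero hK]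
    congr 1
    simp
  refine ⟨{
    data := D
    card_G := by rw [T2G2.card_G hK, hK]
    no_two := fun S hS => by
      haveI := Subgroup.normal_of_index_eq_two hS
      have h1 : commutator (RG K m) ≤ S := by
        haveI : IsMulCommutative (RG K m ⧸ S) := by
          haveI : IsCyclic (RG K m ⧸ S) := isCyclic_of_prime_card (p := 2) (by rw [← Subgroup.index_eq_card]; exact hS)
          exact ⟨⟨(IsCyclic.commGroup (α := RG K m ⧸ S)).mul_comm⟩⟩
        exact Subgroup.Normal.quotient_commutative_iff_commutator_le.mp inferInstance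
      rw [perfect hK hm, top_le_iff] at h1
      rw [h1, Subgroup.index_top] at hS
      omega
    a := a
    a_ne := ha1
    a_sq := ha2
    ι := ι
    ι_inj := hι
    a_comm := hcomm
    a_notin := hnot
    cent := hcent
    syl := sylow_two hK a haval
    U := Us K m
    card_U := hcU
    U_pow := h9
    U_nine := by
      refine ⟨wg hK 1 0 0, wg_mem hK _ _ _, ?_⟩
      refine orderOf_eq_prime_pow (p := 3) (n := 1) ?_ (h9 _ (wg_mem hK _ _ _))
      rw [pow_one, wg_cube, ← wg_zero hK]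
      intro e
      have := (wg_inj hK e).2.2
      simp at this
    U_ti := fun g u hu hu1 hgu => by
      rw [hUB]
      exact mem_Bsub.mpr (mem_B_of_conj hK g.2 (mem_Us.mp hu) (fun e => hu1 (Subtype.ext e)) (mem_Us.mp hgu))
    card_NU := by rw [hUB, hcB]
    H := t.range
    N := N1
    H_cyclic := inferInstance
    card_H := hH
    H_le := fun y hy => Or.inl hy
    card_N := hN1
    N_inv := fun y hy hyH h hh => by
      rcases hy with hy | hy
      · exact absurd hy hyH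
      · obtain ⟨c, hc, rfl⟩ : ∃ c ∈ t.range, y = n0 hK * c := ⟨_, hy, by rw [mul_inv_cancel_left]⟩
        obtain ⟨i, rfl⟩ := hc
        obtain ⟨j, rfl⟩ := hh
        rw [show n0 hK * t i * t j * (n0 hK * t i)⁻¹ = n0 hK * (t i * t j * (t i)⁻¹) * (n0 hK)⁻¹ by group,
          ← map_mul, mul_comm i j, map_mul, mul_inv_cancel_right, hinv (t j) ⟨j, rfl⟩]
    split := hsplit
    cyclic := fun hp P => CfsgLib.ReeSylowCyclic.sylow_cyclic hK hm hp P
    seven := fun {p} _ h1 h2 h3 x hx => ?_ }⟩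
  let r := CfsgLib.ReeSylowCyclic.rep (K := K) (hc3 hK) (3 ^ m)
  have hr : Function.Injective r := CfsgLib.ReeSylowCyclic.rep_injective hK hm _
  obtain ⟨hA, hB, hC⟩ := centralizer_seven h1 h2 h3 (x := r x) (by rw [orderOf_injective r hr, hx])
  refine ⟨fun y z hy hz => ?_, fun A hA' hcop => ?_, fun y k hy => ?_⟩
  · exact (commute_map_iff (f := r) hr).mp (hA _ _ (hy.map r) (hz.map r))
  · haveI := hB (A.map r) (by rintro _ ⟨y, hy, rfl⟩; exact (hA' y hy).map r)
      (by rwa [Subgroup.card_map_of_injective hr])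
    exact isCyclic_of_surjective (A.equivMapOfInjective r hr).symm (A.equivMapOfInjective r hr).symm.surjective
  · exact hC (r y) k (by rw [← map_inv, ← map_mul, ← map_mul, hy, map_pow])

end CfsgLib.ReeTori
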