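import Mathlib
import Cfsg.Agent.Lib.ReeTori.Count

/-!
The element orders of a small Ree group.
-/

set_option autoImplicit false
set_option linter.unusedSectionVars false
set_option linter.style.haveILetI false
set_option linter.deprecated false
set_option linter.unusedVariables false

namespace CfsgLib.ReeTori

open CfsgLib.DicksonFull

variable {G : Type*} [Group G] [Finite G] {F : Type*} [Field F] [Fintype F] {m : ℕ} [Fact (Nat.Prime 3)]
  [CharP F 3] (R : Ree G F m)

local notation "PSL" => Matrix.ProjectiveSpecialLinearGroup (Fin 2) F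
local notation "q" => Fintype.card F

include R

theorem exists_a_mul {w : PSL} (hw : Odd (orderOf w)) : ∃ g : G, orderOf g = 2 * orderOf w := by
  refine ⟨R.a * R.ι w, ?_⟩
  rw [(R.a_comm w).orderOf_mul_eq_mul_orderOf_of_coprime, orderOf_invol R.a_ne R.a_sq,
    orderOf_injective R.ι R.ι_inj]
  rw [orderOf_invol R.a_ne R.a_sq, orderOf_injective R.ι R.ι_inj]
  exact Nat.coprime_two_left.mpr hw

/-- The element orders. -/
theorem orders (d : ℕ) : (∃ g : G, orderOf g = d) ↔ (d ∣ 6 ∨ d ∣ 9 ∨ d ∣ q - 1 ∨ d ∣ (q + 1) / 2 ∨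
    d ∣ q - 3 ^ (m + 1) + 1 ∨ d ∣ q + 3 ^ (m + 1) + 1) := by
  obtain ⟨k, hk, hk3, ha1, ha2, h3⟩ := arith R
  obtain ⟨A, B, ⟨hA, hcA, -⟩, ⟨hB, hcB, -⟩, hbig⟩ := big_pair R
  constructor
  · rintro ⟨g, rfl⟩
    by_cases hg : g = 1
    · left; rw [hg, orderOf_one]; exact one_dvd _
    rcases Nat.even_or_odd (orderOf g) with hev | hodd
    · obtain ⟨h1, h2⟩ := even_pow hev
      obtain ⟨x, hx⟩ := invol_conj_a R h1 h2
      obtain ⟨e, he⟩ := hev
      have hc : Commute (x * g * x⁻¹) R.a := by
        rw [← hx, commute_conj_iff]; exact (Commute.refl g).pow_right _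
      have hpos := orderOf_pos g
      have heo : Odd e := by
        rw [← Nat.not_even_iff_odd]
        rintro ⟨c, hc'⟩
        refine no_four R (g ^ c) ?_
        rw [orderOf_pow, he, hc', show c + c + (c + c) = 4 * c by ring, Nat.gcd_eq_right (dvd_mul_left c 4),
          Nat.mul_div_cancel _ (by omega)]
      have hy : orderOf ((x * g * x⁻¹) ^ 2) = e := by
        rw [orderOf_pow, orderOf_conj', he, Nat.gcd_eq_right ⟨e, by omega⟩]; omega
      obtain ⟨z, hz⟩ := R.cent _ hc
      have hy2 : (x * g * x⁻¹) ^ 2 = R.ι (z ^ 2) := by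
        rcases hz with h | h <;> rw [h]
        · rw [map_pow]
        · rw [(R.a_comm z).mul_pow, pow_two R.a, R.a_sq, one_mul, map_pow]
      rw [hy2, orderOf_injective R.ι R.ι_inj] at hy
      rw [he, ← two_mul]
      rcases odd_orders R.data (hy ▸ heo : Odd (orderOf (z ^ 2))) with h | h | h
      · rw [hy] at h
        refine Or.inr (Or.inr (Or.inl ?_))
        rw [show q - 1 = 2 * ((q - 1) / 2) by omega]
        exact Nat.mul_dvd_mul_left 2 h
      · rw [hy] at h
        refine Or.inr (Or.inr (Or.inr (Or.inl ?_)))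
        rw [show (q + 1) / 2 = 2 * ((q + 1) / 4) by omega]
        exact Nat.mul_dvd_mul_left 2 h
      · left; exact dvd_of_eq (by omega)
    · rcases classify R hg hodd with h | h | h | h
      · exact Or.inr (Or.inl h)
      · exact Or.inr (Or.inr (Or.inl (h.trans (Nat.div_dvd_of_dvd (by omega)))))
      · exact Or.inr (Or.inr (Or.inr (Or.inl (h.trans ⟨2, by omega⟩))))
      · rcases hbig g h with h' | h'
        · exact Or.inr (Or.inr (Or.inr (Or.inr (Or.inl h'))))
        · exact Or.inr (Or.inr (Or.inr (Or.inr (Or.inr h'))))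
  · have hcyc : ∀ C : Subgroup G, IsCyclic C → ∃ g : G, orderOf g = Nat.card C := fun C hC => by
      haveI := hC
      obtain ⟨⟨g, hg⟩, hgo⟩ := IsCyclic.exists_ofOrder_eq_natCard (α := C)
      exact ⟨g, by rw [← hgo, Subgroup.orderOf_mk]⟩
    rintro (h | h | h | h | h | h) <;> refine PSL2Spectrum.mem_range_of_dvd ?_ h
    · obtain ⟨w, hw⟩ := exists_three (F := F)
      have := exists_a_mul R (w := w) (hw ▸ (by decide : Odd 3))
      rwa [hw] at this
    · obtain ⟨u, -, hu⟩ := R.U_nine
      exact ⟨u, hu⟩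
    · rw [← R.card_H]; exact hcyc _ R.H_cyclic
    · obtain ⟨x, hx⟩ := exists_minus R.data
      have := exists_a_mul R (w := x) (hx ▸ ⟨k, by omega⟩)
      rw [hx] at this
      rwa [show (q + 1) / 2 = 2 * ((q + 1) / 4) by omega]
    · rw [← hcA]; exact hcyc _ hA
    · rw [← hcB]; exact hcyc _ hB

end CfsgLib.ReeTori
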